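import Cfsg.Agent.Lib.OF.KB

/-!
# S3328 (copy of `Lib/OS` with weaker `VG`, other `FT`), S3130, split case VI: `U₁ × U₂` is Sylow in `N`; the split case does not occur in a simple group.  Copy of `USt/SE`; new: `emb`, `star`.
-/

set_option autoImplicit false
set_option linter.unusedSectionVars false

namespace Cfsg.Lib.OF

open Subgroup G2S Cfsg.Lib.BG Cfsg.Lib.GW GSt.SLa
open USt (conj_one_iff pg_prod N0_le sup_t A_card A_norm P_card P_cen cen_focal trd PD UP)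
open GSt (N0 HH)
open scoped commutatorElement Cfsg.Lib.Transfer

variable {J U A G : Type*} [Group J] [Finite J] [Group U] [Finite U] [Group A] [Group G] [Finite G] {m : SM J U A}
  {ψ μ ν : J →* G} {t g φ r y : G} {P T Γ N X Y : Subgroup G} {α β : MulAut J} {θ η ι : A}

theorem conj_conj {X : Type*} [Group X] (a b x : X) : a * (b * x * b⁻¹) * a⁻¹ = a * b * x * (a * b)⁻¹ := by group

namespace SN
variable (s : SN m ψ t μ ν T Γ N)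
include s

/-- `x⁻¹ w` has diagonal type: `dl`. -/
theorem dl' {w x : G} {α' β' : MulAut J} (a : Ac μ ν w α β) (hN : w * t ∈ N) (a' : Ac μ ν x α' β') (hx : x ∈ N)
    (h : m.Θ α * (m.Θ β)⁻¹ = m.Θ α' * (m.Θ β')⁻¹) : False := by
  refine s.dl (a'.inv.mul a) ?_ (by rw [mul_assoc]; exact mul_mem (inv_mem hx) hN)
  simp only [map_mul, map_inv]
  rw [eq_mul_of_mul_inv_eq h, mul_assoc, inv_mul_cancel_left]

/-- `n = ⁅r, t⁆ = (r t) · t (r t)⁻¹ t ∈ Γ ⊓ N` has type `(c, c⁻¹)`, `c = θ η⁻¹`, and is inverted by `t`.  `trd` with `E = N`, `H = HH`, `H₀ = N0`,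
`K = {x ∈ N0 ⊓ N of type (d, d⁻¹), d ∈ D}`, `D = {θ' η'⁻¹ | (θ', η') a type of N0 ⊓ N}`.  `n ∉ K` by `dl'` (`w = r t`).
`n ^ (2 k) t = n ^ k t n ^ (-k)`, `n t = r t r⁻¹`, `sw`. -/
theorem tr2 (hr : r ∈ Γ) (rN : r ∈ N) (a : Ac μ ν (r * t) (m.fl θ) (m.fl η)) :
    ∃ g ∈ N, ∃ l : ℕ, g⁻¹ * ⁅r, t⁆ ^ l * g ∈ HH μ ν t ∧ g⁻¹ * ⁅r, t⁆ ^ l * g ∉ N0 μ ν := by
  have := s.nN
  have q := s.sq
  have tH := s.T_HH s.tT
  have rH := s.T_HH (s.Γ_T hr)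
  let D : Subgroup A :=
    { carrier := {d | ∃ x ∈ N, ∃ α β, Ac μ ν x α β ∧ d = m.Θ α * (m.Θ β)⁻¹}
      one_mem' := ⟨1, one_mem _, 1, 1, GSt.Ac.one, by simp⟩
      mul_mem' := by
        rintro _ _ ⟨x, hx, α, β, a, rfl⟩ ⟨x', hx', α', β', a', rfl⟩
        refine ⟨_, mul_mem hx hx', _, _, a.mul a', ?_⟩
        rw [map_mul, map_mul, mul_inv_rev, m.comm (m.Θ β')⁻¹, mul_assoc, mul_assoc, ← mul_assoc (m.Θ β)⁻¹,
          ← mul_assoc (m.Θ α'), m.comm (m.Θ β)⁻¹]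
      inv_mem' := by
        rintro _ ⟨x, hx, α, β, a, rfl⟩
        exact ⟨_, inv_mem hx, _, _, a.inv, by rw [map_inv, map_inv, mul_inv_rev, m.comm]⟩ }
  let K : Subgroup G :=
    { carrier := {x | ∃ α β, Ac μ ν x α β ∧ m.Θ α ∈ D}
      one_mem' := ⟨1, 1, GSt.Ac.one, by rw [map_one]; exact one_mem _⟩
      mul_mem' := by
        rintro _ _ ⟨α, β, a, h⟩ ⟨α', β', a', h'⟩
        exact ⟨_, _, a.mul a', by rw [map_mul]; exact mul_mem h h'⟩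
      inv_mem' := by
        rintro _ ⟨α, β, a, h⟩
        exact ⟨_, _, a.inv, by rw [map_inv]; exact inv_mem h⟩ }
  have k0 : ∀ x ∈ N, x ∈ N0 μ ν → ∀ y ∈ HH μ ν t, ⁅x, y⁆ ∈ K := fun x hx ⟨α, β, a⟩ y hy => by
    rcases q.mem_HH.1 hy with ⟨α', β', a'⟩ | ⟨α', β', a'⟩
    · exact ⟨_, _, ((a.mul a').mul a.inv).mul a'.inv, by rw [map_mul, m.Θ_cj, map_inv, mul_inv_cancel]; exact one_mem _⟩
    · have := a.mul ((a'.mul (q.ac_t a.inv)).mul a'.inv)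
      rw [show x * (y * t * (t * x⁻¹ * t) * (y * t)⁻¹) = ⁅x, y⁆ by simp [commutatorElement_def, mul_assoc, q.tt]] at this
      exact ⟨_, _, this, x, hx, α, β, a, by rw [map_mul, m.Θ_cj, map_inv]⟩
  have an := a.mul (q.ac_t a.inv)
  rw [show r * t * (t * (r * t)⁻¹ * t) = ⁅r, t⁆ by simp [commutatorElement_def, mul_assoc, q.tt, s.it]] at an
  have nH : ⁅r, t⁆ ∈ HH μ ν t := Au.cm_mem rH tH
  have nN : ⁅r, t⁆ ∈ N := by simpa only [commutatorElement_def, mul_assoc] using mul_mem rN (s.cjN (inv_mem rN) t)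
  refine trd (K := K) s.t2 (le_normalizer_of_normal (mem_top t)) tH nN nH
    (by simp [commutatorElement_def, mul_assoc, q.tt, s.it, s.t2]) (commutator_le.2 fun x hx y hy => ?_) (s.pN.ge nN)
    ?_ (fun k g _ h => ?_)
    fun x hx ⟨α, β, a'⟩ => ⟨_, _, (q.ac_t a').mul a'.inv, _, inv_mem hx.2, _, _, a'.inv, by
      rw [map_mul, map_inv, map_inv, inv_inv, m.comm]⟩
  · by_cases c : x ∈ N0 μ ν
    · exact k0 x hx.2 c y hy.1
    by_cases c' : y ∈ N0 μ ν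
    · exact commutatorElement_inv y x ▸ inv_mem (k0 y hy.2 c' x hx.1)
    have := k0 _ (mul_mem hx.2 (inv_mem hy.2)) (q.mul_sw hx.1 (inv_mem hy.1) c (mt inv_mem_iff.1 c')) y hy.1
    rwa [show ⁅x * y⁻¹, y⁆ = ⁅x, y⁆ by simp [commutatorElement_def, mul_assoc]] at this
  · rintro ⟨α, β, a', x, hx, α', β', a'', e⟩
    refine s.dl' a (by rwa [mul_assoc, s.t2, mul_one]) a'' hx ?_
    rw [← e, ← (q.uniq m.toBM an a').1, map_mul, map_inv]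
  · have e : ⁅r, t⁆ = (t * (r * t * r⁻¹))⁻¹ := by simp [commutatorElement_def, mul_assoc, s.it]
    have k₁ := fun j : ℤ => Inv.zpow_conj_left s.t2 (cj2 s.t2 r) j
    have k' := fun j : ℤ => Inv.zpow_conj_left (cj2 s.t2 r) s.t2 j
    obtain ⟨c, hc, e'⟩ : ∃ c ∈ HH μ ν t, ⁅r, t⁆ ^ k * t = c * t * c⁻¹ := by
      rcases Int.even_or_odd' k with ⟨j, rfl | rfl⟩
      · refine ⟨⁅r, t⁆ ^ j, zpow_mem nH j, ?_⟩
        rw [e, inv_zpow', inv_zpow', k₁, mul_neg]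
      · refine ⟨⁅r, t⁆ ^ j * r, mul_mem (zpow_mem nH j) rH, ?_⟩
        rw [← conj_conj, commutatorElement_def, s.it, k', zpow_add_one, mul_assoc, mul_assoc _ t t, s.t2, mul_one]
    have := s.sw (g⁻¹ * c) (by simpa only [e', mul_inv_rev, inv_inv, mul_assoc] using h)
    rwa [mul_mem_cancel_right hc, inv_mem_iff] at this
/-- As `USt.SN.pt_of`, with `nf2`. -/
theorem pt_of {e y : G} (e2 : e * e = 1) (ht : Ty m μ ν e ι ι)
    (h1 : ι = 1 → ∀ x : J, x * x = 1 → ∃ e, IsConj x (m.j e) ∧ ∀ θ, m.fU θ e = e) (hy : y ∈ T) (y0 : y ∉ N0 μ ν)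
    (hc : e * y = y * e) : ∃ h ∈ HH μ ν t, h * e * h⁻¹ * t = t * (h * e * h⁻¹) := by
  have q := s.sq
  obtain ⟨u, u', ae⟩ := ht
  obtain ⟨θ, η, v, v', ay⟩ := s.ty (mul_mem hy s.tT) ((q.mem_HH.1 (s.T_HH hy)).resolve_left y0)
  obtain ⟨a2, -⟩ := q.ac_sq m.toBM ae e2
  have a1 := (ay.mul (q.ac_t ae)).mul ay.inv
  rw [show y * t * (t * e * t) * (y * t)⁻¹ = e by simp [mul_assoc, q.tt, ← mul_assoc y, ← hc]] at a1
  obtain ⟨w, hw⟩ := m.nf2 (m.R_sq a2).1 (m.R_sq a2).2 h1 η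
  have a3 := ((q.ac_μν 1 (m.j v' * w)).inv.mul ae).mul (q.ac_μν 1 (m.j v' * w))
  rw [(q.uniq m.toBM ae a1).2, ← conj_conj, hw] at a3
  replace a3 : Ac μ ν ((μ 1 * ν (m.j v' * w))⁻¹ * e * (μ 1 * ν (m.j v' * w))⁻¹⁻¹) (MulAut.conj (m.j u) * m.fl ι)
      (MulAut.conj (m.j u) * m.fl ι) := by simpa [mul_assoc] using a3
  have e2' := cj2 e2 (μ 1 * ν (m.j v' * w))⁻¹
  have c0 : (μ 1 * ν (m.j v' * w))⁻¹ ∈ HH μ ν t := inv_mem (mem_sup_left ⟨_, _, q.ac_μν _ _⟩)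
  generalize (μ 1 * ν (m.j v' * w))⁻¹ = c at a3 e2' c0
  have a4 : Ac μ ν ((c * e * c⁻¹ * t) ^ 2) 1 1 := by simpa only [a2, _root_.sq, mul_assoc] using a3.mul (q.ac_t a3)
  have a5 : ∀ k, Ac μ ν (((c * e * c⁻¹ * t) ^ 2) ^ k) 1 1 := fun k => by simpa only [one_pow] using a4.pow k
  obtain ⟨k, hk⟩ : Odd (orderOf ((c * e * c⁻¹ * t) ^ 2)) := Nat.not_even_iff_odd.1 fun ⟨k, hk⟩ => by
    have := orderOf_dvd_of_pow_eq_one (q.cm_odd m.toBM (n := 1) (a5 k)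
      (by rw [pow_one, ← pow_mul, mul_two, ← hk, pow_orderOf_eq_one]))
    have := orderOf_pos ((c * e * c⁻¹ * t) ^ 2)
    have := Nat.le_of_dvd (by omega) ‹orderOf _ ∣ k›
    omega
  have o := pow_orderOf_eq_one ((c * e * c⁻¹ * t) ^ 2)
  rw [hk] at o
  have e3 := Inv.zpow_conj_left e2' s.t2 k
  rw [zpow_mul, zpow_natCast, zpow_natCast, zpow_ofNat] at e3
  refine ⟨(c * e * c⁻¹ * t) ^ k * c, mul_mem (pow_mem (mul_mem (q.mem_HH.2 (.inl ⟨_, _, a3⟩)) (s.T_HH s.tT)) k) c0, ?_⟩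
  rw [← conj_conj]
  · rw [e3]
    generalize c * e * c⁻¹ = f at e2' o
    have i : ∀ n : ℕ, t * (f * t) ^ n * t = ((f * t) ^ n)⁻¹ := fun n => by
      rw [← inv_pow, mul_inv_rev, s.it, inv_eq_of_mul_eq_one_left e2']
      nth_rw 3 [← s.it]
      rw [← conj_pow, mul_assoc t, mul_inv_cancel_right]
    rw [← pow_mul] at o ⊢
    calc _ = (f * t) ^ (2 * k + 1) := by rw [pow_succ, mul_assoc]
      _ = ((f * t) ^ (2 * k + 1))⁻¹ := eq_inv_of_mul_eq_one_left (by rw [← pow_add, ← two_mul, o])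
      _ = _ := by rw [← i, pow_succ]; simp [mul_assoc, s.t2]

theorem emb1 {σ d : A} {i : ℕ} (o : orderOf σ = 2 ^ (i + 1)) (o' : orderOf d = 2 ^ (i + 2)) (e : σ ^ 2 ^ i = d ^ 2 ^ (i + 1)) (ht : Ty m μ ν y d η)
    (b : m.V σ →* G) (h : ∀ x, b x ∈ T ⊓ 𝐂[y]) (h0 : ∀ x, b x ∈ N0 μ ν) : b ⟨m.z, m.z_V σ⟩ ∈ 𝐂(μ.range) := by
  by_contra c
  have := m.fin
  obtain ⟨ρ, hρ⟩ := s.sq.exists_ρ m.toBM
  obtain ⟨u, u', a⟩ := ht
  let f := ((MonoidHom.fst _ _).comp ρ).comp (b.codRestrict _ h0)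
  have hf {x α β} (a : Ac μ ν (b x) α β) : f x = α := congrArg Prod.fst (hρ a (h0 x))
  let I : Subgroup A := ⟨⟨⟨{θ | θ * θ = 1}, fun {a c} ha hc => Inv.mul_self_mul_of_comm ha hc (m.comm _ _)⟩, one_mul _⟩,
    fun {a} ha => by rw [Set.mem_setOf_eq, ← _root_.mul_inv_rev, show a * a = 1 from ha, inv_one]⟩
  have n1 := (m.card_CR (P := f.range) (u := u) (θ := d) (D := I) (by
    rintro _ ⟨x, rfl⟩
    obtain ⟨θ, η, v, v', a'⟩ := s.ty (h x).1 (h0 x)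
    rw [hf a']
    exact ⟨⟨v, θ, rfl⟩, mc.2 (s.sq.uniq m.toBM (a'.mul a) (mc.1 (h x).2 ▸ a.mul a')).1⟩) (by
    rintro _ ⟨x, rfl⟩
    obtain ⟨α, β, a', k, -⟩ := s.I4_of (.inr (.inr ⟨d, by rw [o, o']; exact Nat.pow_lt_pow_right one_lt_two (by omega)⟩)) h0 x
    rwa [hf a'])).trans (Nat.mul_le_mul_right _ (m.card_four fun _ h => h))
  have n2 := GSt.fx_card ⊤ (𝐂(μ.range).comap b) (fun x => f.rangeRestrict x) fun x x' e => by
    obtain ⟨α, β, a⟩ := h0 ((x : m.V σ)⁻¹ * x')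
    rw [← hf a, map_mul f, map_inv f, show f x = f x' from congrArg Subtype.val e, inv_mul_cancel] at a
    exact ac_c1 a
  have n3 := m.NZS σ d i ((𝐂(μ.range).comap b).map (m.V σ).subtype) o o' e (map_subtype_le _) (le_norm_iff.2 (by
    rintro v hv _ ⟨x, hx, rfl⟩
    exact ⟨⟨v, hv⟩ * x * ⟨v, hv⟩⁻¹, by simpa using conj_mem_of_norm (norm_cent N0_le (h0 ⟨v, hv⟩)) hx, rfl⟩))
    fun ⟨x, hx, e⟩ => c (by rwa [show x = ⟨m.z, m.z_V σ⟩ from Subtype.ext e] at hx)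
  rw [card_top, top_inf_eq] at n2
  rw [card_map_of_injective (subtype_injective _)] at n3
  exact n3.not_ge (n2.trans ((Nat.mul_le_mul_right _ n1).trans_eq (by ring)))
/-- `b x ∈ N0`: a swap commuting with `y` gives `d = d⁻¹` (first lines of `USt.SN.meet`).  `K_i = {x ∈ V σ | b x ∈ C(M_i)}` are normal in `V σ`, `K₁ ⊓ K₂ = 1` (`cm_odd`), so `z ∉ K₁` or `z ∉ K₂`;
by symmetry (`symm`, `fx_inv`, `(d⁻¹) ^ 2 ^ (i + 1) = d ^ 2 ^ (i + 1)`) the first.  The first actions of the `b x` form a subgroup of `R ⊓ C(conj (j u) * fl d)` (`ty`, `uniq`) with types of square one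
(`I4_of`): `card_CR`, `UM.card_four` give `v σ ≤ |K₁| · 4 · v d`, against `NZS`. -/
theorem emb {σ d : A} {i : ℕ} (o : orderOf σ = 2 ^ (i + 1)) (o' : orderOf d = 2 ^ (i + 2)) (e : σ ^ 2 ^ i = d ^ 2 ^ (i + 1)) (ht : Ty m μ ν y d d⁻¹)
    (b : m.V σ →* G) (bi : Function.Injective b) (h : ∀ x, b x ∈ T ⊓ 𝐂[y]) : False := by
  have q := s.sq
  have h0 (x) : b x ∈ N0 μ ν := by_contra fun c1 => by
    obtain ⟨α, β, a⟩ := (q.mem_HH.1 (s.T_HH (h x).1)).resolve_left c1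
    obtain ⟨α', β', a'⟩ := ht.N0
    have := (a.mul (q.ac_t a')).mul a.inv
    rw [show b x * t * (t * y * t) * (b x * t)⁻¹ = y by simp [mul_assoc, q.tt, ← mul_assoc (b x), mc.1 (h x).2]] at this
    have e := (q.ty_Θ m ht this).1.symm.trans ((m.Θ_cj _ _).trans (q.ty_Θ m ht a').2)
    have := orderOf_dvd_of_pow_eq_one (show d ^ 2 ^ 1 = 1 by rw [pow_one, _root_.sq, mul_eq_one_iff_eq_inv, ← e])
    rw [o', Nat.pow_dvd_pow_iff_le_right one_lt_two] at this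
    omega
  refine m.z1 (congrArg Subtype.val (bi ((s.cc (h _).1 (s.emb1 o o' e ht b h h0) (s.symm.emb1 o (by rwa [orderOf_inv]) ?_ ht.symm b h
    fun x => GSt.N0_symm.ge (h0 x))).trans (map_one b).symm)))
  rw [inv_pow, e, eq_inv_iff_mul_eq_one, ← pow_add, ← two_mul, ← pow_succ', ← o', pow_orderOf_eq_one]

/-- As `USt.SN.star`.  `orderOf c = orderOf n = 2 ^ (i + 1)`, `φ = n ^ 2 ^ i` is a `Ph` of type `ι = c ^ 2 ^ i` (`ph_of`); `i = 0` contradicts `alpha`.  Now let the order be `2 ^ (i + 2)`; `y t` acts as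
`(α, β) ∈ R × R` of type `(θ, η)`, `y²` acts as `(α β, β α)`, `σ = θ η`, `φ₂ = y ^ 2 ^ (i + 1) = g φ g⁻¹ ∈ T` has type `(σ', σ')`, `σ' = σ ^ 2 ^ i`.  `pt_of` applies to `φ₂` (if `σ' = 1` and the second case of
`NF1` holds, then `ι ≠ 1`, a square, is of field kind, against `ty_f`).  `good_conj`: `φ₂` is `HH`-conjugate to `φ`; `ac_HH`, `uniq`: `(α β) ^ 2 ^ i = δ (fl ι) δ⁻¹`, `σ' = ι`, `orderOf σ = 2 ^ (i + 1)`.
`LG`: `α β = δ' (fl σ) δ'⁻¹`.  `b x = μ (δ' (j x)) ν (β (δ' (j x)))` on `V σ` is injective and centralizes `y` (`swap`).  The `2`-group `b (V σ) ⊔ ⟨y⟩ ≤ C(y)` is conjugated into `T` through a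
Sylow subgroup of `N(⟨n⟩)` containing `t`, with `y ↦ y*` of type `(d, d⁻¹)`, `d = c ^ (± v)` of the order of `c`, so `d ^ 2 ^ (i + 1) = ι`.  `emb`. -/
theorem star {n : G} {c : A} (hn : n ∈ Γ) (nN : n ∈ N) (a : Ac μ ν n (m.fl c) (m.fl c⁻¹))
    (nt : t * n * t = n⁻¹) (hy : y ∈ T) (y0 : y ∉ N0 μ ν) (h : IsConj n y) : False := by
  have q := s.sq
  have := m.fin
  obtain ⟨g, rfl⟩ := isConj_iff.1 h
  obtain ⟨k₀, hk₀⟩ := s.pΓ ⟨n, hn⟩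
  replace hk₀ : n ^ 2 ^ k₀ = 1 := congrArg Subtype.val hk₀
  have ak : ∀ k, Ac μ ν (n ^ k) (m.fl (c ^ k)) (m.fl (c ^ k)⁻¹) := fun k => by simpa only [← map_pow, inv_pow] using a.pow k
  have o : ∀ k, n ^ k = 1 ↔ c ^ k = 1 := fun k => ⟨fun e => m.fl_inj ((q.uniq m.toBM (ak k) (e ▸ GSt.Ac.one)).1.trans
    (map_one _).symm), fun e => q.cm_odd m.toBM (n := k₀) (by simpa only [e, inv_one, map_one] using ak k)
      (by rw [← pow_mul, mul_comm, pow_mul, hk₀, one_pow])⟩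
  obtain ⟨i, -, hi⟩ := (Nat.dvd_prime_pow Nat.prime_two).1 (orderOf_dvd_of_pow_eq_one ((o _).1 hk₀))
  obtain ⟨i, rfl⟩ := Nat.exists_eq_succ_of_ne_zero (show i ≠ 0 from fun e => y0 (by
    rw [← pow_one n, (o 1).2 (by rw [pow_one, ← orderOf_eq_one_iff, hi, e]; rfl)]; simp))
  rw [Nat.succ_eq_add_one] at hi
  have d1 := hi ▸ pow_orderOf_eq_one c
  have d2 : c ^ 2 ^ i * c ^ 2 ^ i = 1 := by rw [← pow_add, ← two_mul, ← pow_succ', d1]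
  have d3 : c ^ 2 ^ i ≠ 1 := pow_ne_one_of_lt_orderOf (by positivity) (hi ▸ Nat.pow_lt_pow_right one_lt_two (by omega))
  have p := s.ph_of ⟨pow_mem hn (2 ^ i), pow_mem nN _⟩ (by simpa only [inv_eq_of_mul_eq_one_left d2] using ak (2 ^ i)) d2 d3
  obtain ⟨i, rfl⟩ := Nat.exists_eq_succ_of_ne_zero (show i ≠ 0 from fun e => y0 (by
    rw [e, pow_zero, pow_one] at p
    exact s.alpha p (s.T_HH hy)))
  rw [Nat.succ_eq_add_one] at hi d1 p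
  clear d2 d3
  obtain ⟨φ, w⟩ : ∃ φ, n ^ 2 ^ (i + 1) = φ := ⟨_, rfl⟩
  obtain ⟨ι, wι⟩ : ∃ ι, c ^ 2 ^ (i + 1) = ι := ⟨_, rfl⟩
  rw [w, wι] at p
  have yφ : (g * n * g⁻¹) ^ 2 ^ (i + 1) = g * φ * g⁻¹ := by rw [conj_pow, w]
  have yo : (g * n * g⁻¹) ^ 2 ^ (i + 1 + 1) = 1 := by rw [conj_pow, (o _).2 d1]; simp
  have ey : g⁻¹ * (g * n * g⁻¹) * g⁻¹⁻¹ = n := by group
  generalize g * n * g⁻¹ = y at hy y0 yφ yo ey
  obtain ⟨θ, η, u, u', ay⟩ := s.ty (mul_mem hy s.tT) ((q.mem_HH.1 (s.T_HH hy)).resolve_left y0)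
  have tα := m.Θ_spec (m.j u) θ
  have tβ := m.Θ_spec (m.j u') η
  generalize MulAut.conj (m.j u) * m.fl θ = α, MulAut.conj (m.j u') * m.fl η = β at ay tα tβ
  have a2 := ay.mul (q.ac_t ay)
  rw [show y * t * (t * (y * t) * t) = y ^ 2 by simp [mul_assoc, q.tt, s.t2, _root_.sq]] at a2
  have a3 := a2.pow (2 ^ i)
  rw [← pow_mul, ← pow_succ', yφ] at a3
  have e1 : m.Θ ((α * β) ^ 2 ^ i) = (θ * η) ^ 2 ^ i := by rw [map_pow, map_mul, tα, tβ]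
  have fT : g * φ * g⁻¹ ∈ T := yφ ▸ pow_mem hy _
  obtain ⟨θ', η', tf⟩ := s.ty fT ⟨_, _, a3⟩
  rw [← (q.ty_Θ m tf a3).1, ← (q.ty_Θ m tf a3).2, e1, map_pow, map_mul, tα, tβ, m.comm η] at tf
  obtain ⟨h, hh, e2⟩ := s.pt_of (cj2 p.sq g) tf (fun e => m.NF1.resolve_right fun k => (s.ty_f (s.pt p) ⟨p.ι2, p.ι1, fun e => p.ι1 (e.trans
    (k (c ^ 2 ^ i) (by rw [← pow_add, ← two_mul, ← pow_succ', wι, e])))⟩ a3).ne1 (e1.trans e)) hy y0 (yφ ▸ ((Commute.refl y).pow_left _).eq)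
  rw [conj_conj] at e2
  obtain ⟨h', hh', e3⟩ := s.good_conj (p.cen t s.tΓ) e2
  obtain ⟨δ, δ', a4⟩ := s.ac_HH p.ac (mul_mem (inv_mem hh) hh')
  rw [← conj_conj, ← e3, conj_conj, inv_mul_cancel_left] at a4
  have e4 := (q.uniq m.toBM a3 a4).1
  have e5 : (θ * η) ^ 2 ^ i = ι := by rw [← e1, e4, m.Θ_cj, m.Θ_fl]
  have σo : orderOf (θ * η) = 2 ^ (i + 1) := orderOf_eq_prime_pow (e5 ▸ p.ι1) (by rw [pow_succ, pow_mul, e5, _root_.sq, p.ι2])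
  obtain ⟨ε, e6⟩ := m.LG (by rw [map_mul, tα, tβ]) σo (e5 ▸ e4)
  let b : m.V (θ * η) →* G := (((q.pr.comp ((MonoidHom.id J).prod β.toMonoidHom)).comp ε.toMonoidHom).comp m.j).comp (m.V (θ * η)).subtype
  have hb : ∀ x, b x = μ (ε (m.j x)) * ν (β (ε (m.j x))) := fun _ => rfl
  have bi : Function.Injective b := (injective_iff_map_eq_one _).2 fun x e => Subtype.ext ((map_eq_one_iff _ m.em.inj).1 (ε.injective
    ((m.two_center (q.eq_one m.toBM e).1 (show ε (m.j x) ^ 2 ^ _ = 1 by rw [← map_pow, (m.j_two x.1).choose_spec, map_one])).trans (map_one ε).symm)))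
  obtain ⟨Q, hQ, lQ⟩ := Syl.exists_ge (M := 𝐂[y]) ((m.pU.to_subgroup _).of_surjective _ b.rangeRestrict_surjective) (by
    rintro _ ⟨x, rfl⟩
    rw [mc, eq_comm, ← cjf, hb, ← conj_mul, (q.swap ay _).1, (q.swap ay _).2, ← MulAut.mul_apply _ α, e6, s.comm]
    simp [-map_mul, m.fl_j, mem_V.1 x.2])
  have yQ : y ∈ Q := hQ.ge_of_norm_p (zpowers_le.2 (self_mem_cent1 y)) (Inv.isPGroup_zpowers yo) (norm_of_cent (cent_zpowers y ▸ hQ.le)) (mem_zpowers y)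
  obtain ⟨R, hR, h1⟩ := Syl.exists_ge (M := 𝐍(zpowers n)) (Inv.isPGroup_zpowers_of_mul_self s.t2) (zpowers_le.2
    (mem_normalizer_fintype (by
      rintro _ ⟨k, rfl⟩
      rw [← conj_zpow, s.it, nt]
      exact zpow_mem (inv_mem (mem_zpowers n)) k)))
  have l : g⁻¹ ⋆ Q ≤ 𝐍(zpowers n) := Transfer.conj_le_iff.2 fun x hx =>
    cent_le_norm _ (cent_zpowers n ▸ mc.2 (ey ▸ cjc (mc.1 (hQ.le hx)) g⁻¹))
  obtain ⟨c₁, hc₁, h2⟩ := hR.exists_conj_le ((pgroup_conj _).2 hQ.pgroup) l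
  obtain ⟨c₂, hc₂, h3⟩ := Syl.exists_conj_le (s.syl.of_le s.T_HH le_top) hR.pgroup (s.two hR.pgroup (h1 (mem_zpowers t)))
  have h4 : ∀ x ∈ Q, c₂ * c₁ * g⁻¹ * x * (c₂ * c₁ * g⁻¹)⁻¹ ∈ T := fun x hx => by
    rw [← conj_conj, ← conj_conj]
    exact Transfer.conj_le_iff.1 h3 _ (Transfer.conj_le_iff.1 h2 _ ⟨x, hx, rfl⟩)
  obtain ⟨v, hv⟩ := mem_powers_iff_mem_zpowers.2 (conj_mem_of_norm hc₁ (mem_zpowers n))
  have vo : orderOf (c ^ v) = 2 ^ (i + 1 + 1) := by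
    rw [← hi]
    refine orderOf_eq_orderOf_iff.2 fun k => ?_
    rw [← pow_mul, ← o, pow_mul, show n ^ v = _ from hv, conj_pow, conj_eq_one_iff, o]
  have vι : (c ^ v) ^ 2 ^ (i + 1) = ι := (GSt.SN.zp2 p.ι2 (by
    rw [← pow_mul, mul_comm, pow_mul, wι]; exact pow_mem (mem_zpowers ι) v)).resolve_left
    (pow_ne_one_of_lt_orderOf (by positivity) (vo ▸ Nat.pow_lt_pow_right one_lt_two (by omega)))
  have yT := h4 y yQ
  obtain ⟨d, td, hd, dι⟩ : ∃ d, Ty m μ ν (c₂ * c₁ * g⁻¹ * y * (c₂ * c₁ * g⁻¹)⁻¹) d d⁻¹ ∧ orderOf d = 2 ^ (i + 1 + 1) ∧ d ^ 2 ^ (i + 1) = ι := by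
    have e : c₂ * c₁ * g⁻¹ * y * (c₂ * c₁ * g⁻¹)⁻¹ = c₂ * n ^ v * c₂⁻¹ := by
      rw [← conj_conj, ← conj_conj, ey, show n ^ v = _ from hv]
    rw [e] at yT ⊢
    rcases q.mem_HH.1 hc₂ with ⟨α, β, a'⟩ | ⟨α, β, a'⟩
    · have a'' := (a'.mul (ak v)).mul a'.inv
      obtain ⟨θ, η, h⟩ := s.ty yT ⟨_, _, a''⟩
      rw [← (q.ty_Θ m h a'').1, ← (q.ty_Θ m h a'').2, m.Θ_cj, m.Θ_cj, m.Θ_fl, m.Θ_fl] at h
      exact ⟨_, h, vo, vι⟩
    · have a'' := (a'.mul (q.ac_t (ak v))).mul a'.inv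
      rw [show c₂ * t * (t * n ^ v * t) * (c₂ * t)⁻¹ = c₂ * n ^ v * c₂⁻¹ by simp [mul_assoc, q.tt]] at a''
      obtain ⟨θ, η, h⟩ := s.ty yT ⟨_, _, a''⟩
      rw [← (q.ty_Θ m h a'').1, ← (q.ty_Θ m h a'').2, m.Θ_cj, m.Θ_cj, m.Θ_fl, m.Θ_fl] at h
      exact ⟨_, by rwa [inv_inv], by rwa [orderOf_inv], by rw [inv_pow, vι, inv_eq_of_mul_eq_one_left p.ι2]⟩
  generalize c₂ * c₁ * g⁻¹ = k at h4 yT td
  exact s.emb σo hd (e5.trans dι.symm) td ((MulAut.conj k).toMonoidHom.comp b) ((MulAut.conj k).injective.comp bi)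
    fun x => ⟨h4 _ (lQ ⟨x, rfl⟩), mc.2 (cjc (mc.1 (hQ.le (lQ ⟨x, rfl⟩))) k)⟩

/-- `exists_ph`, `case1`: a swap `u r ∈ T ⊓ N`, `r ∈ Γ ⊓ N`; `tr2`; conjugate the swap into `T` by `HH`; `star`. -/
theorem fin : Syl 2 (SS m μ ν) N := by
  have := s.nN
  have q := s.sq
  have hS := s.syl.inf le_top (le_normalizer_of_normal (H := N))
  by_cases c : T ⊓ N ≤ SS m μ ν
  · exact le_antisymm c (le_inf s.SS_T s.SS_N) ▸ hS
  obtain ⟨φ, ι, p⟩ := s.exists_ph c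
  exfalso
  obtain ⟨x, hx, x0⟩ := SetLike.not_le_iff_exists.1 (s.case1 p)
  obtain ⟨u, hu, r, hr, rfl⟩ := (s.mem x).1 hx.1
  have rN := (mul_mem_cancel_left (s.SS_N hu)).1 hx.2
  obtain ⟨θ, η, a⟩ := s.std1 hr fun c => x0 (mul_mem (s.SS_N0 hu) c)
  obtain ⟨g, -, l, h1, h2⟩ := s.tr2 hr rN a
  have an := a.mul (q.ac_t a.inv)
  rw [show r * t * (t * (r * t)⁻¹ * t) = ⁅r, t⁆ by simp [commutatorElement_def, mul_assoc, q.tt, s.it]] at an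
  have nΓ : ⁅r, t⁆ ^ l ∈ Γ := pow_mem (Au.cm_mem hr s.tΓ) l
  obtain ⟨k, hk⟩ := s.pΓ ⟨_, nΓ⟩
  obtain ⟨h, hh, e⟩ := Syl.exists_conj_le (s.syl.of_le s.T_HH le_top) (Inv.isPGroup_zpowers (x := g⁻¹ * ⁅r, t⁆ ^ l * g) (k := k) (by
    nth_rw 2 [← inv_inv g]
    rw [conj_pow, show (⁅r, t⁆ ^ l) ^ 2 ^ k = 1 from congrArg Subtype.val hk]; simp)) (zpowers_le.2 h1)
  refine s.star (c := (θ * η⁻¹) ^ l) nΓ (pow_mem (by
    simpa only [commutatorElement_def, mul_assoc] using mul_mem rN (s.cjN (inv_mem rN) t)) l) ?_ ?_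
    (Transfer.conj_le_iff.1 e _ (mem_zpowers _)) (fun c => h2 (by simpa [mul_assoc] using conj_mem_of_norm' (s.HH_N0 hh) c))
    (isConj_iff.2 ⟨h * g⁻¹, by group⟩)
  · simpa only [← inv_pow, mul_inv_rev, inv_inv, map_pow, map_mul, map_inv] using an.pow l
  · nth_rw 3 [← s.it]
    rw [← conj_pow, ← inv_pow]
    congr 1
    simp [commutatorElement_def, mul_assoc, q.tt, s.it, s.t2]
end SN

theorem SM.up' (m : SM J U A) : UP U := 
  ⟨m.pU, fun h => m.z1 (mem_bot.1 ((commutator_le (H₃ := ⊥)).2 (fun x _ y _ => commutatorElement_eq_one_iff_mul_comm.2 (h x y))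
    (m.ZU m.zZ))), m.ZU, m.cab, m.CP⟩

/-- `SQ.sp`, `exists_sy`, `SN.fin`, `PD.false` in `N` (compare the end of `GSt.core`). -/
theorem split_false (m : SM J U A) (s : St ψ t) {z : U} (z2 : z * z = 1) (z1 : z ≠ 1) (d : SD ψ t μ ν (m.j z)) [N.Normal] [IsSimpleGroup N] (hN : μ.range ≤ N) :
    False := by
  have q : SQ ψ t μ ν := ⟨s, d.toSD0⟩
  have sp := q.sp m z2 z1 d.can
  obtain ⟨δ, T, Γ, sy⟩ := sp.exists_sy m
  have a2 : ν.range ≤ N := by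
    rintro _ ⟨x, rfl⟩
    rw [← d.tμ]
    simpa [s.it] using ‹N.Normal›.conj_mem _ (hN ⟨x, rfl⟩) t
  have hc : ⁅N, N⁆ = N := by
    rcases (inferInstance : (commutator N).Normal).eq_bot_or_eq_top with e | e
    · refine absurd (fun x y => mem_center_iff.1 (m.center_of fun w => d.kerμ _ ?_) x) m.not_comm
      have : ⁅(⟨_, hN ⟨y, rfl⟩⟩ : N), (⟨_, hN ⟨w, rfl⟩⟩ : N)⁆ ∈ commutator N := commutator_mem_commutator trivial trivial
      rw [e, mem_bot, Subtype.ext_iff] at this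
      rw [map_commutatorElement]
      exact this
    · rw [← map_subtype_commutator, e, ← MonoidHom.range_eq_map, range_subtype]
  have b1 : ∀ x, μ.comp δ.toMonoidHom x ∈ N := fun x => hN ⟨_, rfl⟩
  have b2 : ∀ x, ν.comp δ.toMonoidHom x ∈ N := fun x => a2 ⟨_, rfl⟩
  have sn := SN.mk (sp.comp δ) sy ‹_› hc (by rintro _ ⟨x, rfl⟩; exact b1 x) (by rintro _ ⟨x, rfl⟩; exact b2 x)
  have hs := sn.fin
  rw [← sn.sq.i_range] at hs
  have pf : ∀ χ : J →* N, ⁅χ.range, χ.range⁆ = χ.range := fun χ => by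
    rw [MonoidHom.range_eq_map, ← map_commutator, ← _root_.commutator_def, m.perf]
  refine PD.false (i := (sn.sq.i m).codRestrict N fun x => hs.le ⟨x, rfl⟩) (M₁ := (MonoidHom.codRestrict _ N b1).range)
    (M₂ := (MonoidHom.codRestrict _ N b2).range) m.up' ⟨⟨fun a b e => sn.sq.i_inj m (congrArg Subtype.val e),
      (Hall.map_iff N.subtype_injective).1 ?_⟩, pf _, pf _, fun a => ⟨m.j a, Subtype.ext (by simp [SQ.i_apply])⟩,
      fun a => ⟨m.j a, Subtype.ext (by simp [SQ.i_apply])⟩, ?_⟩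
  · rw [← MonoidHom.range_eq_map, range_subtype, MonoidHom.map_range]
    exact hs
  · rintro _ ⟨x, rfl⟩ _ ⟨y, rfl⟩
    exact Subtype.ext (d.comm _ _)

section

theorem SD.comp {z : J} (d : SD ψ t μ ν z) (α : MulAut J) :
    SD (ψ.comp α.toMonoidHom) t (μ.comp α.toMonoidHom) (ν.comp α.toMonoidHom) (α⁻¹ z) where
  kerμ x h := mem_center_iff.2 fun y => α.injective (by simpa using mem_center_iff.1 (d.kerμ _ h) (α y))
  tμ _ := d.tμ _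
  comm _ _ := d.comm _ _
  diag _ := d.diag _
  can g g2 h1 h2 := by
    have e : ∀ χ : J →* G, (χ.comp α.toMonoidHom).range = χ.range := fun χ => by
      rw [← MonoidHom.map_range, MonoidHom.range_eq_top.2 α.surjective, ← MonoidHom.range_eq_map]
    rw [e, e]
    refine d.can g g2 (fun y hy => ?_) (by simpa using h2)
    simpa using h1 (α⁻¹ y) (by rw [← map_mul, hy, map_mul])

/-- Conjugate `z` into `U`. -/
theorem split_false' (m : SM J U A) (s : St ψ t) {z : J} (z2 : z * z = 1) (z1 : z ≠ 1) (d : SD ψ t μ ν z) [N.Normal] [IsSimpleGroup N]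
    (hN : μ.range ≤ N) : False := by
  obtain ⟨e, he, -⟩ := m.NF0 z z2
  obtain ⟨c, hc⟩ := isConj_iff.1 he
  have d' := d.comp (MulAut.conj c)⁻¹
  rw [inv_inv, MulAut.conj_apply, hc] at d'
  refine split_false (N := N) m (s.comp _) (m.em.inj (by rw [map_mul, ← hc, conj_mul, z2]; simp)) (fun h => z1 ?_) d' ?_
  · rwa [h, map_one, conj_eq_one_iff] at hc
  · rintro _ ⟨x, rfl⟩; exact hN ⟨_, rfl⟩
end

end Cfsg.Lib.OF
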