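import Cfsg.Agent.Lib.USt.Ab

/-!
# S3328 (copy of `Lib/OS` with weaker `VG`, other `FT`), S3130, split case: the abstract definitions.  See `docs/OS.md`.  Port of `USt/Ab` with an abelian group `A` of types that need not be cyclic.
`γ` is the graph type (`γ = 1` is allowed: no graph type); the other involutions of `A` are the *field* types.  `V θ = fx fU 1 θ` are the fixed points of `θ` on `U`.
-/

set_option autoImplicit false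

namespace Cfsg.Lib.OF

open Subgroup G2S Cfsg.Lib.BG Cfsg.Lib.GW
open scoped commutatorElement Cfsg.Lib.Transfer

/-- The fixed points of `x ↦ u · θ x · u⁻¹`. -/
def fx {U A : Type*} [Group U] [Group A] (f : A →* MulAut U) (u : U) (θ : A) : Subgroup U where
  carrier := {x | u * f θ x * u⁻¹ = x}
  one_mem' := by simp
  mul_mem' := fun {a b} ha hb => by
    rw [Set.mem_setOf_eq] at *
    rw [map_mul, ← conj_mul, ha, hb]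
  inv_mem' := fun {a} ha => by
    rw [Set.mem_setOf_eq] at *
    rw [map_inv, ← conj_inv, ha]

/-- `u · θ u · θ² u ⋯` (`n` factors). -/
def nrm {U A : Type*} [Group U] [Group A] (f : A →* MulAut U) (θ : A) (u : U) : ℕ → U
  | 0 => 1
  | n + 1 => u * f θ (nrm f θ u n)

/-- `J` quasisimple with odd centre, `Θ` the type of an automorphism. -/
structure BM (J A : Type*) [Group J] [Group A] where
  Θ : MulAut J →* A
  comm : ∀ x y : A, x * y = y * x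
  fin : Finite A
  perf : commutator J = ⊤
  oddZ : Odd (Nat.card (center J))
  qs : ∀ N : Subgroup J, N.Normal → N = ⊤ ∨ N ≤ center J
  Θ_conj : ∀ l, Θ (MulAut.conj l) = 1
  inner : ∀ (α : MulAut J) (n : ℕ), α ^ 2 ^ n = 1 → Θ α = 1 → ∃ l, α = MulAut.conj l
  tri : ∃ u a b : J, u * u = 1 ∧ u ≠ 1 ∧ b * u * b⁻¹ = u * (a * u * a⁻¹)
  lift : ∀ β : MulAut (J ⧸ center J), ∃ α : MulAut J, ∀ x : J, β x = (α x : J)

/-- A field type. -/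
structure Fd {A : Type*} [Group A] (γ ι : A) : Prop where
  sq : ι * ι = 1
  ne1 : ι ≠ 1
  neγ : ι ≠ γ

/-- What the split case uses of `U` with the action `fU` of `A`. -/
structure UM (U A : Type*) [Group U] [Group A] where
  fU : A →* MulAut U
  z : U
  γ : A
  lo : ℕ
  zc : ℕ
  E0 : Subgroup U
  p2 : IsPGroup 2 A
  γ2 : γ * γ = 1
  I2 : ∀ a b, Fd γ a → Fd γ b → b = a ∨ b = a * γ
  fz : ∀ θ, fU θ z = z
  z1 : z ≠ 1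
  z2 : z * z = 1
  zZ : z ∈ center U
  NZ : ∀ X Y : Subgroup U, X.Normal → Y.Normal → X ⊓ Y = ⊥ → Nat.card X ≤ zc ∨ Nat.card Y ≤ zc
  CLS : ∀ θ : A, θ * θ ≠ 1 → ∀ x, x ∉ center U → 2 < (𝐂[x]).index
  ZU : center U ≤ commutator U
  cab : ∀ x ∈ 𝐂(commutator U), ∀ y ∈ 𝐂(commutator U), x * y = y * x
  CP : ∀ X Y : Subgroup U, (∀ x ∈ X, ∀ y ∈ Y, x * y = y * x) → X ⊔ Y = ⊤ → X = ⊤ ∨ Y = ⊤
  UP : ∀ u θ, Nat.card (fx fU u θ) ≤ Nat.card (fx fU 1 θ)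
  vf : ∀ ι, Fd γ ι → Nat.card (fx fU 1 ι) ^ 2 = Nat.card U
  VG : ∀ θ (X : Subgroup U), (θ = γ ∨ θ = 1 ∨ ∃ d : A, orderOf θ < orderOf d) → (∀ x ∈ fx fU 1 θ, x * x = 1 → x ∈ X) → fx fU 1 θ ≤ X
  ZV : γ ≠ 1 → fx fU 1 γ ⊓ 𝐂(fx fU 1 γ) ≤ ⁅fx fU 1 γ, fx fU 1 γ⁆
  LG0 : ∀ u ι, Fd γ ι → u * fU ι u = 1 → ∃ w, u = w⁻¹ * fU ι w
  LG1 : ∀ u σ (i : ℕ), orderOf σ = 2 ^ (i + 1) → u ∈ fx fU 1 (σ ^ 2 ^ i) → nrm fU σ u (2 ^ i) = 1 → ∃ w, u = w⁻¹ * fU σ w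
  E0V : E0 ≤ fx fU 1 γ
  E0c : ∀ x ∈ E0, ∀ y ∈ E0, x * y = y * x
  AB : γ ≠ 1 → ∀ a θ (K : Subgroup U), a ∈ fx fU 1 γ → K ≤ fx fU 1 γ → fx fU 1 γ ≤ 𝐍(K) → z ∉ K →
    (∀ x ∈ fx fU 1 γ, a * fU θ x * a⁻¹ * x⁻¹ ∈ K) → a ∈ E0 ∧ (θ = 1 ∨ θ = γ)
  NZS : ∀ σ d (i : ℕ) (K : Subgroup U), orderOf σ = 2 ^ (i + 1) → orderOf d = 2 ^ (i + 2) → σ ^ 2 ^ i = d ^ 2 ^ (i + 1) →
    K ≤ fx fU 1 σ → fx fU 1 σ ≤ 𝐍(K) → z ∉ K → 4 * Nat.card K * Nat.card (fx fU 1 d) < Nat.card (fx fU 1 σ)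
  n0 : 2 * Nat.card U * Nat.card A < lo ^ 2
  nf : ∀ ι, Fd γ ι → Nat.card A ^ 2 * Nat.card (fx fU 1 ι) < lo
  nU : ∀ ι, ι * ι = 1 → ι ≠ 1 → Nat.card A ^ 2 * Nat.card (fx fU 1 ι) < Nat.card U
  n8 : ∀ θ ι : A, θ * θ ≠ 1 → ι * ι = 1 → ι ≠ 1 → 8 * zc * Nat.card (fx fU 1 ι) < Nat.card U
  nβ : 4 * Nat.card E0 ^ 2 < lo

/-- The extra room in rank at least six. -/
structure UM.Big {U A : Type*} [Group U] [Group A] (m : UM U A) : Prop where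
  ZV : fx m.fU 1 m.γ ⊓ 𝐂(fx m.fU 1 m.γ) ≤ ⁅⁅fx m.fU 1 m.γ, fx m.fU 1 m.γ⁆, ⁅fx m.fU 1 m.γ, fx m.fU 1 m.γ⁆⁆
  nU : Nat.card A ^ 4 * Nat.card (fx m.fU 1 m.γ) < Nat.card U

/-- `U` Sylow in `J`, `fl A` a complement to `U` in a Sylow subgroup of `Aut J`. -/
structure SM (J U A : Type*) [Group J] [Group U] [Group A] extends BM J A, UM U A where
  j : U →* J
  fl : A →* MulAut J
  em : Em j
  Θ_fl : ∀ θ, Θ (fl θ) = θ
  fl_j : ∀ θ u, fl θ (j u) = j (fU θ u)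
  NFγ : γ ≠ 1 → ∀ u, u * fU γ u = 1 → ∃ (w : J) (e : U), MulAut.conj (j u) * fl γ = MulAut.conj w * (MulAut.conj (j e) * fl γ) * (MulAut.conj w)⁻¹ ∧
    (∀ θ, fU θ e = e) ∧ lo ≤ Nat.card ↥(fx fU 1 γ ⊓ 𝐂[e])
  NF0 : ∀ x : J, x * x = 1 → ∃ e, IsConj x (j e) ∧ lo ≤ Nat.card 𝐂[e]
  NF1 : (∀ x : J, x * x = 1 → ∃ e, IsConj x (j e) ∧ ∀ θ, fU θ e = e) ∨ ∀ d, d * d = γ → γ = 1
  FO : ∀ ι, Fd γ ι → ∀ R : Subgroup J, IsPGroup 2 R → (∀ x ∈ R, fl ι x = x) → (∀ c, fl ι c = c → c ∈ 𝐍(R)) → R = ⊥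
  FR : ∀ ι, Fd γ ι → ∀ e : J, e * e = 1 → e ≠ 1 → ∃ R : Subgroup J, IsPGroup 2 R ∧ (∀ α : MulAut J, α e = e → ∀ x ∈ R, α x ∈ R) ∧
    2 * (Nat.card A * Nat.card U) < Nat.card R * Nat.card (fx fU 1 ι)
  CC : γ ≠ 1 → ∀ x : J, x * x = 1 → x ∈ ⁅𝐂[x], 𝐂[x]⁆ ∨ toUM.Big ∧ ∀ P ≤ 𝐂[x], IsPGroup 2 P → Nat.card P < Nat.card (fx fU 1 γ)

variable {J U A G : Type*} [Group J] [Group U] [Group A] [Group G]

/-- `V θ`. -/
abbrev UM.V (m : UM U A) (θ : A) : Subgroup U := fx m.fU 1 θ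

/-- `L = ψ J` is normal in `C(t)`, `t` is the only nontrivial `2`-element of `K₀ = C(t) ⊓ C(L)`. -/
structure St (ψ : J →* G) (t : G) : Prop where
  ker : ∀ x, ψ x = 1 → x ∈ center J
  t2 : t * t = 1
  t1 : t ≠ 1
  tψ : ∀ x, t * ψ x = ψ x * t
  cn : ∀ g, g * t = t * g → ∃ α : MulAut J, ∀ x, g * ψ x * g⁻¹ = ψ (α x)
  k2 : ∀ g (n : ℕ), g * t = t * g → (∀ x, g * ψ x = ψ x * g) → g ^ 2 ^ n = 1 → g = 1 ∨ g = t

/-- Split case: `M = μ J · ν J`, `ν = t μ t`, `L` the diagonal. -/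
structure SD0 (ψ : J →* G) (t : G) (μ ν : J →* G) : Prop where
  kerμ : ∀ x, μ x = 1 → x ∈ center J
  tμ : ∀ x, t * μ x * t = ν x
  comm : ∀ x y, μ x * ν y = ν y * μ x
  diag : ∀ x, ψ x = μ x * ν x

/-- `M` is canonical. -/
structure SD (ψ : J →* G) (t : G) (μ ν : J →* G) (z : J) : Prop extends SD0 ψ t μ ν where
  can : ∀ g, g * g = 1 → (∀ y, y * z = z * y → g * ψ y = ψ y * g) → g * t * g = t * ψ z → g ∈ μ.range ⊔ ν.range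

/-- `g` acts as `α` on the first factor and as `β` on the second. -/
abbrev Ac (μ ν : J →* G) (g : G) (α β : MulAut J) : Prop := GSt.Ac μ ν g α β

/-- The hypotheses used before `sw` is known. -/
structure SQ (ψ : J →* G) (t : G) (μ ν : J →* G) : Prop extends St ψ t, SD0 ψ t μ ν

/-- The data of the split case; `t` fixes a unique point of `G / HH`. -/
structure SP (ψ : J →* G) (t : G) (μ ν : J →* G) : Prop extends St ψ t, SD0 ψ t μ ν where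
  sw : ∀ g, g * t * g⁻¹ ∈ GSt.HH μ ν t → g ∈ GSt.HH μ ν t

/-- `U₁ × U₂`. -/
def SS (m : SM J U A) (μ ν : J →* G) : Subgroup G := (μ.comp m.j).range ⊔ (ν.comp m.j).range

/-- `g` normalizes `U₁`, `U₂` and has types `θ`, `η`. -/
def Ty (m : SM J U A) (μ ν : J →* G) (g : G) (θ η : A) : Prop :=
  ∃ a b, Ac μ ν g (MulAut.conj (m.j a) * m.fl θ) (MulAut.conj (m.j b) * m.fl η)

/-- `T = S' Γ`, `Γ ∋ t` a group of standard automorphisms and swaps. -/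
structure SY (m : SM J U A) (μ ν : J →* G) (t : G) (T Γ : Subgroup G) : Prop where
  syl : Syl 2 T ⊤
  tΓ : t ∈ Γ
  mem : ∀ x, x ∈ T ↔ ∃ u ∈ SS m μ ν, ∃ σ ∈ Γ, x = u * σ
  std : ∀ σ ∈ Γ, ∃ θ η, Ac μ ν σ (m.fl θ) (m.fl η) ∨ Ac μ ν (σ * t) (m.fl θ) (m.fl η)

/-- All data. -/
structure SN (m : SM J U A) (ψ : J →* G) (t : G) (μ ν : J →* G) (T Γ N : Subgroup G) : Prop
    extends SP ψ t μ ν, SY m μ ν t T Γ where
  nN : N.Normal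
  pN : ⁅N, N⁆ = N
  μN : μ.range ≤ N
  νN : ν.range ≤ N

/-- An involution of type `(ι, ι)` commuting with `t`. -/
structure Pt (m : SM J U A) (μ ν : J →* G) (t φ : G) (ι : A) : Prop where
  sq : φ * φ = 1
  ct : φ * t = t * φ
  ac : ∃ α β, Ac μ ν φ α β ∧ m.Θ α = ι ∧ m.Θ β = ι
  ι2 : ι * ι = 1
  ι1 : ι ≠ 1

/-- A standard involution of type `(ι, ι)`. -/
structure Ph (m : SM J U A) (μ ν : J →* G) (Γ N : Subgroup G) (φ : G) (ι : A) : Prop where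
  mem : φ ∈ Γ
  memN : φ ∈ N
  cen : ∀ σ ∈ Γ, φ * σ = σ * φ
  sq : φ * φ = 1
  ac : Ac μ ν φ (m.fl ι) (m.fl ι)
  ι2 : ι * ι = 1
  ι1 : ι ≠ 1

end Cfsg.Lib.OF
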