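import Cfsg.Agent.Lib.OF.SB_a

/-!
# S3328 (copy of `Lib/OS` with weaker `VG`, other `FT`), S3130, split case III: a standard involution is not conjugate to a swap; the field case of the transfer.
-/

set_option autoImplicit false
set_option linter.unusedSectionVars false

namespace Cfsg.Lib.OF

open Subgroup G2S Cfsg.Lib.BG Cfsg.Lib.GW GSt.SLa
open USt (conj_one_iff pg_prod N0_le sup_t A_card A_norm P_card P_cen cen_focal trd PD UP)
open GSt (N0 HH)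
open scoped commutatorElement Cfsg.Lib.Transfer

variable {J U A G : Type*} [Group J] [Finite J] [Group U] [Finite U] [Group A] [Group G] [Finite G] {m : SM J U A}
  {ψ μ ν : J →* G} {t g φ r y : G} {P T Γ N X Y : Subgroup G} {α β : MulAut J} {θ η ι : A}

namespace SN
variable (s : SN m ψ t μ ν T Γ N)
include s

/-- Conjugate `r` into `T` by `HH`; `r t` has type `(θ, θ⁻¹)` (first lines of `USt.SN.card_TN`).  If `θ² = 1`, the type is diagonal: `dl` with `w = r t`.  -/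
theorem sw_inv (hr : r ∈ HH μ ν t) (r0 : r ∉ N0 μ ν) (rN : r ∈ N) (r2 : r * r = 1) : ∃ θ : A, θ * θ ≠ 1 := by
  by_contra! c
  obtain ⟨α, β, a⟩ := (s.sq.mem_HH.1 hr).resolve_left r0
  have := (s.sq.uniq m.toBM (a.mul (s.sq.ac_t a)) (by simpa [mul_assoc, s.sq.tt, s.t2, r2] using GSt.Ac.one)).1
  exact s.dl a (mul_left_cancel (a := m.Θ α) (by rw [c, ← map_mul, this, map_one])) (by rwa [mul_assoc, s.t2, mul_one])

variable (p : Ph m μ ν Γ N φ ι)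
include p

/-- As `USt.SN.alpha` up to the numerics.  `sw_inv`.  `b : U → T ⊓ N` injective, centralizing `e` of type `(ι, ι)`, `P = b U ⊔ ⟨e⟩`, `2 |U| ≤ |P|`, `A_i = (U_i ⊔ ⟨e⟩).comap b`, `A₁ ⊓ A₂ = 1`,
`|P ⊓ S'| ≤ v ι · |A_i|` (`card_pr`, `fix_pr`, `UP`, `A_card`).  If `b U ≤ N0`: `NZ`, `sixteen` (`I4_of` for `θ = 1`, `fx_one`): `2 |U| ≤ 16 zc · v ι`, against `n8`.
If `b y` is a swap and `A₁ = 1`: `2 |U| ≤ |A|² v ι` (`card_TN`, `card_B`), against `nU`.  Otherwise `CLS` as in `USt`. -/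
theorem alpha (h : g * φ * g⁻¹ ∈ HH μ ν t) : g * φ * g⁻¹ ∈ N0 μ ν := by
  by_contra h0
  have := m.fin
  obtain ⟨α, β, a⟩ := (s.sq.mem_HH.1 h).resolve_left h0
  have r2 := cj2 p.sq g
  obtain ⟨θ, hθ⟩ := s.sw_inv h h0 (s.cjN p.memN g) r2
  have e := fun x => (s.sq.swap a x).1
  let b₀ : U →* G := (s.sq.pr.comp ((MonoidHom.id J).prod β.toMonoidHom)).comp m.j
  have hb : ∀ x, b₀ x = μ (m.j x) * ν (β (m.j x)) := fun _ => rfl
  have c0 : ∀ x, b₀ x * (g * φ * g⁻¹) = g * φ * g⁻¹ * b₀ x := fun x => by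
    conv_rhs => rw [hb, s.comm]
    generalize g * φ * g⁻¹ = r at r2 e
    simp only [hb, ← e, mul_assoc, inv_eq_of_mul_eq_one_left r2, ← mul_assoc r r, r2, one_mul, mul_one]
  obtain ⟨c, h1, h2, h3⟩ := s.into_T (s.pt p) (P := b₀.range) (m.pU.of_surjective _ b₀.rangeRestrict_surjective)
    (by rintro _ ⟨x, rfl⟩; exact c0 x)
  let b := (MulAut.conj c).toMonoidHom.comp b₀
  have bi : Function.Injective b := (MulAut.conj c).injective.comp ((injective_iff_map_eq_one _).2 fun x e =>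
    (map_eq_one_iff _ m.em.inj).1 (m.two_center (s.sq.eq_one m.toBM e).1 (m.j_two _).choose_spec))
  have bT : ∀ x, b x ∈ T := fun x => h1 ⟨_, ⟨x, rfl⟩, rfl⟩
  have hc : ∀ x, c * (g * φ * g⁻¹) * c⁻¹ * b x = b x * (c * (g * φ * g⁻¹) * c⁻¹) := fun x => cjc (c0 x).symm c
  have hr : c * (g * φ * g⁻¹) * c⁻¹ ∉ b.range := fun ⟨x, e⟩ =>
    h0 (s.sq.M_le (s.sq.mem_M.2 ⟨_, _, ((MulAut.conj c).injective e).symm⟩))
  have eN := s.cjN (s.cjN p.memN g) c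
  have e2 := cj2 r2 c
  generalize c * (g * φ * g⁻¹) * c⁻¹ = r at *
  have hS := s.not_SS h3 p.ι1
  have i := s.A_inf e2 bi h2 h3.N0 hS hr
  have n0 := P_card bi hr
  have n1 := (s.card_TN (P := b.range ⊔ zpowers r) (sup_le (by
    rintro _ ⟨x, rfl⟩; exact ⟨bT x, s.cjN (mul_mem (s.μN ⟨_, rfl⟩) (s.νN ⟨_, rfl⟩)) c⟩) (zpowers_le.2 ⟨h2, eN⟩))).trans
    (Nat.mul_le_mul_right _ s.card_B)
  have k : ∀ {μ ν : J →* G} (s : SN m ψ t μ ν T Γ N), Ty m μ ν r ι ι → Nat.card ↥((b.range ⊔ zpowers r) ⊓ SS m μ ν) ≤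
      Nat.card (m.V ι) * Nat.card (((μ.comp m.j).range ⊔ zpowers r).comap b) := fun s h => by
    obtain ⟨a, d, h'⟩ := id h
    refine s.card_pr.trans (Nat.mul_le_mul ((card_le_of_le ?_).trans (m.UP d ι)) (A_card e2 hc fun c =>
      s.not_SS h p.ι1 (mem_sup_left c)))
    rintro _ ⟨x, hx, rfl⟩
    exact (s.sq.fix_pr m h' (P_cen hc _ hx)).2
  have n2 := k s h3
  have n3 := k s.symm h3.symm
  rw [SS_symm] at n3
  by_cases c : ∀ x, b x ∈ N0 μ ν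
  · have n4 := n0.trans (s.sixteen (sup_le (by
      rintro _ ⟨x, rfl⟩; exact ⟨bT x, s.I4_of (θ := 1) (b := b.comp (m.V 1).subtype) (.inr (.inl rfl)) (fun x => c x) ⟨x, fx_one.ge (mem_top x)⟩⟩)
      (zpowers_le.2 ⟨h2, s.I4_sq h3.N0 e2⟩)))
    have n5 := (m.NZ _ _ ⟨fun x hx y => A_norm hc (s.T_U1 (bT y) (c y)) hx⟩ ⟨fun x hx y => A_norm hc (s.T_U2 (bT y) (c y)) hx⟩ i).elim
      (fun h => n2.trans (Nat.mul_le_mul_left _ h)) fun h => n3.trans (Nat.mul_le_mul_left _ h)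
    have n6 := m.n8 θ ι hθ p.ι2 p.ι1
    rw [mul_assoc, mul_comm m.zc] at n6
    change 8 * (Nat.card (m.V ι) * _) < _ at n6
    omega
  obtain ⟨y, c⟩ := not_forall.1 c
  by_cases c1 : ((μ.comp m.j).range ⊔ zpowers r).comap b = ⊥
  · rw [c1, card_bot, mul_one] at n2
    have := (n0.trans (n1.trans (Nat.mul_le_mul_left _ n2))).trans_lt (m.nU ι p.ι2 p.ι1)
    omega
  obtain ⟨x, hx, x1⟩ := exists_ne_one (nil_meet_center (pgroup_nil (m.pU.to_subgroup ((N0 μ ν).comap b)))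
    (comap_mono (sup_le (le_sup_left.trans s.SS_N0) (zpowers_le.2 h3.N0)))
    (le_norm_iff.2 fun y hy x hx => A_norm hc (s.T_U1 (bT y) hy) hx) c1)
  refine (m.CLS θ hθ x fun z => x1 (mem_bot.1 (i.le ⟨hx.1, mem_comap.2 ?_⟩))).not_ge ((Nat.le_of_dvd
    (Nat.pos_of_ne_zero FiniteIndex.index_ne_zero) (index_dvd_of_le (le_cent1_iff.2 hx.2))).trans ?_)
  · obtain ⟨u, hu, d, hd, e⟩ := (mem_sup_left_norm (zp_norm.2 (s.T_U1 h2 h3.N0))).1 hx.1
    rw [← cjf.2 (mem_center_iff.1 z y), map_mul, map_mul, map_inv, ← e, ← conj_mul]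
    refine mul_mem_sup (s.T_sw (bT y) c hu) ?_
    rcases GSt.SN.zp2 e2 hd with rfl | rfl
    exacts [by simp, by rw [← hc, mul_inv_cancel_right]; exact mem_zpowers _]
  have := s.sq.half (P := b.range) (by rintro _ ⟨x, rfl⟩; exact s.T_HH (bT x))
  rw [← Nat.card_congr (MonoidHom.ofInjective bi).toEquiv, ← map_comap_eq, card_map_of_injective bi,
    ← ((N0 μ ν).comap b).index_mul_card] at this
  exact Nat.le_of_mul_le_mul_right this Nat.card_pos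

/-- As `USt.SN.case1` with `K = {x | first type ∈ ⟨γ⟩}`: a conjugate of `φ` in `T ⊓ N` has first type of field kind (`ty_f`), so `ι` or `ι γ` (`I2`). -/
theorem case1a (h : T ⊓ N ≤ N0 μ ν) : ι = m.γ := by
  by_contra hγ
  have hι : Fd m.γ ι := ⟨p.ι2, p.ι1, hγ⟩
  have := s.nN
  obtain ⟨τ, hτ⟩ := s.sq.exists_τ m.toBM
  obtain ⟨S, hS⟩ := Syl.iff_sylow.1 s.sylN
  have mS : ∀ x : N, x ∈ (S : Subgroup N) ↔ x.1 ∈ T ⊓ N := fun x => by rw [← hS]; exact (mem_map_iff_mem N.subtype_injective).symm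
  let f := (zpowers m.γ).comap ((MonoidHom.fst _ _).comp τ)
  have mK : ∀ {x : N} {α β}, Ac μ ν x α β → (x ∈ (f.map (N0 μ ν).subtype).subgroupOf N ↔ m.Θ α ∈ zpowers m.γ) := fun {x α β} a =>
    ⟨fun ⟨⟨y, h0⟩, hy, e⟩ => by subst e; exact (show (τ _).1 = m.Θ α from congrArg Prod.fst (hτ a h0)) ▸ hy,
      fun e => ⟨⟨x, _, _, a⟩, show (τ _).1 ∈ _ by rwa [hτ a], rfl⟩⟩
  refine Transfer.not_mem_pResidual_sup_commutator_of_conj_mem_coset S (K := (f.map (N0 μ ν).subtype).subgroupOf N)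
    (g := ⟨φ, p.memN⟩) (commutator_le.2 fun x hx y hy => ?_) ((mS _).2 ⟨s.Γ_T p.mem, p.memN⟩)
    (fun c => (GSt.SN.zp2 m.γ2 (m.Θ_fl ι ▸ (mK p.ac).1 c)).elim p.ι1 hγ) (Subtype.ext ((_root_.sq φ).trans p.sq)) (fun a ha => ?_) (mem_sup_right ?_)
  · obtain ⟨α, β, a⟩ := h ((mS x).1 hx)
    obtain ⟨α', β', a'⟩ := h ((mS y).1 hy)
    exact (mK (x := ⁅x, y⁆) (((a.mul a').mul a.inv).mul a'.inv)).2 (by rw [map_mul, m.Θ_cj, map_inv, mul_inv_cancel]; exact one_mem _)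
  · obtain ⟨α, β, a'⟩ := h ((mS _).1 ha)
    refine (mK (x := a * _ * a⁻¹ * _) (a'.mul p.ac.inv)).2 ?_
    rw [map_mul, map_inv, m.Θ_fl]
    rcases m.I2 _ _ hι (s.ty_f (s.pt p) hι a') with e | e <;> rw [e]
    exacts [by simp, by rw [m.comm ι, mul_inv_cancel_right]; exact mem_zpowers _]
  · rw [← mem_map_iff_mem N.subtype_injective, map_subtype_commutator, s.pN]; exact p.memN
end SN

end Cfsg.Lib.OF
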