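import Cfsg.Agent.Lib.OF.SA
import Cfsg.Agent.Lib.USt.SB_a
import Cfsg.Agent.Lib.USt.SC
import Cfsg.Agent.Lib.USt.TRD

/-!
# S3328 (copy of `Lib/OS` with weaker `VG`, other `FT`), S3130, split case II.  Copy of `USt/SB_a` and parts of `USt/SB`; new: the order bounds `card_TN`, `nb`, `lb`.
`U₁ = (μ.comp j).range`, `U₂ = (ν.comp j).range`, `S' = SS`, `B = Γ ⊓ N`; a *swap* is an element of `HH \ N0`.
-/

set_option autoImplicit false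
set_option linter.unusedSectionVars false

namespace Cfsg.Lib.OF

open Subgroup G2S Cfsg.Lib.BG Cfsg.Lib.GW GSt.SLa
open USt (conj_one_iff pg_prod N0_le sup_t A_card A_norm P_card P_cen)
open GSt (N0 HH)
open scoped commutatorElement Cfsg.Lib.Transfer

variable {J U A G : Type*} [Group J] [Finite J] [Group U] [Finite U] [Group A] [Group G] [Finite G] {m : SM J U A}
  {ψ μ ν : J →* G} {t g φ e : G} {P T Γ N : Subgroup G} {α β : MulAut J} {θ η ι : A}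

theorem Ty.symm (h : Ty m μ ν g θ η) : Ty m ν μ g η θ := let ⟨a, b, h⟩ := h; ⟨b, a, And.symm h⟩
theorem Ty.N0 (h : Ty m μ ν g θ η) : g ∈ N0 μ ν := let ⟨_, _, h⟩ := h; ⟨_, _, h⟩
theorem SS_symm : SS m ν μ = SS m μ ν := sup_comm _ _
theorem Ph.symm (p : Ph m μ ν Γ N φ ι) : Ph m ν μ Γ N φ ι := ⟨p.mem, p.memN, p.cen, p.sq, And.symm p.ac, p.ι2, p.ι1⟩
theorem Pt.symm (p : Pt m μ ν t φ ι) : Pt m ν μ t φ ι :=
  ⟨p.sq, p.ct, let ⟨α, β, a, b, c⟩ := p.ac; ⟨β, α, And.symm a, c, b⟩, p.ι2, p.ι1⟩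
theorem ty_fl (h : Ac μ ν g (m.fl θ) (m.fl η)) : Ty m μ ν g θ η := ⟨1, 1, by simpa using h⟩

variable (m μ ν) in
/-- The elements whose types have order at most two. -/
def I4 : Subgroup G where
  carrier := {g | ∃ α β, Ac μ ν g α β ∧ m.Θ α * m.Θ α = 1 ∧ m.Θ β * m.Θ β = 1}
  one_mem' := ⟨1, 1, GSt.Ac.one, by simp, by simp⟩
  mul_mem' := fun ⟨_, _, a, b, c⟩ ⟨_, _, a', b', c'⟩ => ⟨_, _, a.mul a', by
    rw [map_mul]; exact Inv.mul_self_mul_of_comm b b' (m.comm _ _), by rw [map_mul]; exact Inv.mul_self_mul_of_comm c c' (m.comm _ _)⟩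
  inv_mem' := fun ⟨_, _, a, b, c⟩ => ⟨_, _, a.inv, by rw [map_inv, ← _root_.mul_inv_rev, b, inv_one],
    by rw [map_inv, ← _root_.mul_inv_rev, c, inv_one]⟩

namespace SN
variable (s : SN m ψ t μ ν T Γ N)
include s

theorem sq : SQ ψ t μ ν := s.toSP.sq
theorem symm : SN m ψ t ν μ T Γ N := ⟨s.toSP.symm, ⟨s.syl, s.tΓ, fun x => SS_symm (m := m) (μ := μ) (ν := ν) ▸ s.mem x, fun σ h =>
  let ⟨θ, η, h⟩ := s.std σ h; ⟨η, θ, h.imp And.symm And.symm⟩⟩, s.nN, s.pN, s.νN, s.μN⟩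
theorem t_not : t ∉ N0 μ ν := s.sq.t_not m.toBM
/-- `GSt.tf`, `sw`. -/
theorem ct (h : g ∈ N) (hc : g * t = t * g) : g ∈ N0 μ ν :=
  GSt.tf le_sup_left (fun _ hx _ hy => s.sq.mul_sw hx hy) s.t2 (mem_sup_right (mem_zpowers t)) s.sw hc
    (commutator_mono le_top le_top (s.pN.ge h))
theorem t_notN : t ∉ N := fun h => s.t_not (s.ct h rfl)
theorem tT : t ∈ T := s.sq.Γ_le s.toSY s.tΓ
theorem Γ_T : Γ ≤ T := s.sq.Γ_le s.toSY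
theorem T_HH : T ≤ HH μ ν t := s.two s.syl.pgroup s.tT
theorem SS_T : SS m μ ν ≤ T := s.sq.SS_le s.toSY
theorem SS_N : SS m μ ν ≤ N := (s.sq.SS_M m).trans (sup_le s.μN s.νN)
theorem SS_N0 : SS m μ ν ≤ N0 μ ν := (s.sq.SS_M m).trans s.sq.M_le
theorem cjN (h : g ∈ N) (c : G) : c * g * c⁻¹ ∈ N := s.nN.conj_mem _ h c
theorem HH_N0 : HH μ ν t ≤ 𝐍(N0 μ ν) := sup_le (le_norm _)
  (zp_norm.2 (Transfer.mem_normalizer_of_conj_le (Transfer.conj_le_iff.2 fun _ hx => s.it.symm ▸ s.sq.N0_t hx)))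
theorem ty (h : g ∈ T) (h0 : g ∈ N0 μ ν) : ∃ θ η, Ty m μ ν g θ η := s.sq.exists_ty s.toSY h h0
theorem T_U1 (h : g ∈ T) (h0 : g ∈ N0 μ ν) : g ∈ 𝐍((μ.comp m.j).range) := by
  obtain ⟨θ, η, a, b, h⟩ := s.ty h h0
  refine Transfer.mem_normalizer_of_conj_le (Transfer.conj_le_iff.2 ?_)
  rintro _ ⟨x, rfl⟩
  exact ⟨a * m.fU θ x * a⁻¹, by simp [h.1, m.fl_j]⟩
theorem T_U2 (h : g ∈ T) (h0 : g ∈ N0 μ ν) : g ∈ 𝐍((ν.comp m.j).range) := s.symm.T_U1 h (GSt.N0_symm.ge h0)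
theorem T_sw (h : g ∈ T) (h0 : g ∉ N0 μ ν) {y : G} (hy : y ∈ (μ.comp m.j).range) : g * y * g⁻¹ ∈ (ν.comp m.j).range := by
  obtain ⟨x, rfl⟩ := hy
  have := conj_mem_of_norm (s.T_U2 (mul_mem h s.tT) ((s.sq.mem_HH.1 (s.T_HH h)).resolve_left h0)) ⟨x, rfl⟩
  simpa [← s.tμ, mul_assoc, s.sq.tt, s.it] using this
theorem std0 (h : g ∈ Γ) (h0 : g ∈ N0 μ ν) : ∃ θ η, Ac μ ν g (m.fl θ) (m.fl η) :=
  let ⟨θ, η, e⟩ := s.std g h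
  ⟨θ, η, e.resolve_right fun e => s.t_not ((mul_mem_cancel_left h0).1 ⟨_, _, e⟩)⟩
theorem std1 (h : g ∈ Γ) (h0 : g ∉ N0 μ ν) : ∃ θ η, Ac μ ν (g * t) (m.fl θ) (m.fl η) :=
  let ⟨θ, η, e⟩ := s.std g h
  ⟨θ, η, e.resolve_left fun e => h0 ⟨_, _, e⟩⟩
theorem pΓ : IsPGroup 2 Γ := pgroup_of_le s.syl.pgroup s.Γ_T
/-- Elements of `Γ` are determined by their types (`cm_odd`). -/
theorem Γ_eq {g' : G} (h : g ∈ Γ) (h' : g' ∈ Γ) (a : Ac μ ν g (m.fl θ) (m.fl η)) (a' : Ac μ ν g' (m.fl θ) (m.fl η)) : g = g' :=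
  let ⟨_, e⟩ := s.pΓ ⟨_, mul_mem (inv_mem h) h'⟩
  inv_mul_eq_one.1 (s.sq.cm_odd m.toBM (by simpa using a.inv.mul a') (congrArg Subtype.val e))
/-- The decomposition of an element of `T ⊓ N0`. -/
theorem dec (h : g ∈ T) (e : Ty m μ ν g θ η) : ∃ u ∈ SS m μ ν, ∃ σ ∈ Γ, g = u * σ ∧ Ac μ ν σ (m.fl θ) (m.fl η) := by
  obtain ⟨u, hu, σ, hσ, rfl⟩ := (s.mem g).1 h
  obtain ⟨θ', η', a⟩ := s.std0 hσ ((mul_mem_cancel_left (s.SS_N0 hu)).1 e.N0)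
  obtain ⟨e1, e2⟩ := s.sq.ty_uniq m e (SQ.ty_mul m ((s.sq.ty_one s.toSY (s.SS_T hu)).2 hu) (ty_fl a))
  exact ⟨u, hu, σ, hσ, rfl, by rwa [e1, e2, one_mul, one_mul]⟩
theorem T0_z (h : g ∈ T) (h0 : g ∈ N0 μ ν) : g * μ (m.j m.z) * g⁻¹ = μ (m.j m.z) := by
  obtain ⟨θ, η, a, b, h⟩ := s.ty h h0
  rw [h.1, m.R_j, m.fz, cjf.2 (mem_center_iff.1 m.zZ a)]
theorem exists_ph (h : ¬ T ⊓ N ≤ SS m μ ν) : ∃ φ ι, Ph m μ ν Γ N φ ι := by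
  obtain ⟨x, hx, c⟩ := SetLike.not_le_iff_exists.1 h
  obtain ⟨u, hu, σ, hσ, rfl⟩ := (s.mem x).1 hx.1
  have := s.nN
  obtain ⟨φ, h1, h2⟩ := Inv.exists_involution_mem_of_even (even_iff_two_dvd.2 (pgroup_dvd_card
    (pgroup_of_le s.pΓ (inf_le_left.trans inf_le_left)) (nil_meet_center (pgroup_nil s.pΓ) (N := Γ ⊓ N) inf_le_left
      (norm_inf (le_norm Γ) le_normalizer_of_normal)
      (ne_bot_of_mem (x := σ) ⟨hσ, (mul_mem_cancel_left (s.SS_N hu)).1 hx.2⟩ fun e => c (by simpa [e] using hu)))))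
  have h3 := (mem_cent.1 h1.2 t s.tΓ).symm
  obtain ⟨θ, η, e⟩ := s.std0 h1.1.1 (s.ct h1.1.2 h3)
  have e' := s.sq.ac_t e
  rw [mul_assoc, h3, s.sq.tt] at e'
  obtain rfl := m.fl_inj (s.sq.uniq m.toBM e e').1
  have h4 := Inv.mul_self_of_orderOf h2
  refine ⟨φ, θ, h1.1.1, h1.1.2, fun σ h => (mem_cent.1 h1.2 σ h).symm, h4, e,
    m.fl_inj (by rw [map_mul, (s.sq.ac_sq m.toBM e h4).1, map_one]), ?_⟩
  rintro rfl
  exact Inv.ne_one_of_orderOf h2 (s.sq.cm_odd m.toBM (n := 1) (by simpa using e) (by rw [pow_one, _root_.sq, h4]))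
theorem pt (p : Ph m μ ν Γ N φ ι) : Pt m μ ν t φ ι :=
  ⟨p.sq, p.cen t s.tΓ, ⟨_, _, p.ac, m.Θ_fl _, m.Θ_fl _⟩, p.ι2, p.ι1⟩
/-- An odd power of `w` is a `2`-element with the same properties; conjugate it by `N0` into `T ⊓ N0` (Sylow in `N0`): `w = u γ`,
`γ ∈ Γ` of type `(θ, θ)` commutes with `t` (`Γ_eq`), `γ t ∈ N` is a swap centralizing `t`, against `ct`. -/
theorem dl {w : G} (a : Ac μ ν w α β) (h : m.Θ α = m.Θ β) (hN : w * t ∈ N) : False := by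
  have := s.nN
  obtain ⟨k, _, ⟨n, rfl⟩, e⟩ := Nat.exists_eq_two_pow_mul_odd (orderOf_pos w).ne'
  have h1 := s.cjN (GSt.pow_mul_mem (p := t) (le_normalizer_of_normal (mem_top t)) (s.cjN hN t) (2 * n + 1)) t
  rw [pow_odd s.t2, ← mul_assoc t w, mul_inv_cancel_right, s.sq.tt, mul_inv_cancel_left, s.it] at h1
  have h2 : (w ^ (2 * n + 1)) ^ 2 ^ k = 1 := by rw [← pow_mul, mul_comm, ← e, pow_orderOf_eq_one]
  have a := a.pow (2 * n + 1)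
  replace h : m.Θ (α ^ (2 * n + 1)) = m.Θ (β ^ (2 * n + 1)) := by rw [map_pow, map_pow, h]
  generalize w ^ (2 * n + 1) = w at h1 h2 a
  have y : Syl 2 (T ⊓ (N ⊔ zpowers t)) (N ⊔ zpowers t) := Syl.of_max inf_le_right (pgroup_of_le s.syl.pgroup inf_le_left)
    fun Q hQ q1 q2 x hx => by
    have e := Syl.eq_of_le_pgroup (s.syl.inf le_top (le_normalizer_of_normal (H := N))) (Q := Q ⊓ N)
      (le_inf ((inf_le_inf_left _ le_sup_left).trans q1) inf_le_right) inf_le_right (pgroup_of_le hQ inf_le_left)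
    exact ⟨((sup_t s.t2).1 (q2 hx)).elim (fun h => (e.ge ⟨hx, h⟩).1) fun h => (mul_mem_cancel_right s.tT).1
      (e.ge ⟨Q.mul_mem hx (q1 ⟨s.tT, mem_sup_right (mem_zpowers t)⟩), h⟩).1, q2 hx⟩
  obtain ⟨c, ⟨⟨α', β', a'⟩, hc⟩, e⟩ := Syl.exists_conj_le (y.inf (N := N0 μ ν ⊓ (N ⊔ zpowers t)) inf_le_right
    (norm_inf (inf_le_left.trans (s.T_HH.trans s.HH_N0)) (inf_le_right.trans (le_norm _)))) (Inv.isPGroup_zpowers h2)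
    (zpowers_le.2 ⟨⟨_, _, a⟩, (sup_t s.t2).2 (.inr h1)⟩)
  have hT := (Transfer.conj_le_iff.1 e w (mem_zpowers w)).1.1
  have a2 := (a'.mul a).mul a'.inv
  obtain ⟨θ, η, e'⟩ := s.ty hT ⟨_, _, a2⟩
  obtain ⟨e1, e2⟩ := s.sq.ty_Θ m e' a2
  obtain rfl : θ = η := by rw [← e1, ← e2, m.Θ_cj, m.Θ_cj, h]
  obtain ⟨u, hu, σ, hσ, e3, a3⟩ := s.dec hT e'
  have c1 := s.Γ_eq (mul_mem (mul_mem s.tΓ hσ) s.tΓ) hσ (s.sq.ac_t a3) a3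
  have h3 : c * w * c⁻¹ * t ∈ N := by
    rcases (sup_t s.t2).1 hc with hc | hc
    · convert mul_mem (mul_mem hc h1) (s.cjN (inv_mem hc) t⁻¹) using 1; group
    · convert mul_mem (s.cjN h1 c) (mul_mem hc (s.cjN (inv_mem hc) t)) using 1
      simp [mul_assoc, s.sq.tt, s.it]
  rw [e3, mul_assoc, mul_mem_cancel_left (s.SS_N hu)] at h3
  exact s.t_not ((mul_mem_cancel_left (show σ ∈ N0 μ ν from ⟨_, _, a3⟩)).1 (s.ct h3 (by rw [mul_assoc, s.t2, mul_one, ← mul_assoc, c1])))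
theorem sixteen (h : P ≤ T ⊓ I4 m μ ν) : Nat.card P ≤ 16 * Nat.card ↥(P ⊓ SS m μ ν) :=
  s.sq.card_16 s.toSY (h.trans (inf_le_inf_left _ fun _ ⟨_, _, a, _⟩ => ⟨_, _, a⟩)) fun _ hg _ _ e =>
    let ⟨_, _, a, b⟩ := (h hg).2; (s.sq.ty_Θ m e a).1 ▸ (s.sq.ty_Θ m e a).2 ▸ b
/-- `exists_τ`, `VG_sq`. -/
theorem I4_of {b : m.V θ →* G} (o : θ = m.γ ∨ θ = 1 ∨ ∃ d : A, orderOf θ < orderOf d) (h : ∀ x, b x ∈ N0 μ ν) (x : m.V θ) : b x ∈ I4 m μ ν := by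
  obtain ⟨τ, hτ⟩ := s.sq.exists_τ m.toBM
  obtain ⟨α, β, a⟩ := h x
  have := m.VG_sq o (fun x y => Prod.ext (m.comm _ _) (m.comm _ _)) (τ.comp (b.codRestrict _ h)) x
  rw [show τ.comp (b.codRestrict _ h) x = _ from hτ a (h x)] at this
  exact ⟨α, β, a, Prod.ext_iff.1 this⟩
theorem I4_sq (h : g ∈ N0 μ ν) (g2 : g * g = 1) : g ∈ I4 m μ ν :=
  let ⟨α, β, a⟩ := h
  ⟨α, β, a, by rw [← map_mul, (s.sq.ac_sq m.toBM a g2).1, map_one], by rw [← map_mul, (s.sq.ac_sq m.toBM a g2).2, map_one]⟩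
theorem not_SS {e : G} (h : Ty m μ ν e θ η) (h1 : θ ≠ 1) : e ∉ SS m μ ν := fun c =>
  h1 (s.sq.ty_uniq m h ((s.sq.ty_one s.toSY (s.SS_T c)).2 c)).1

theorem A_inf {b : U →* G} {e : G} (e2 : e * e = 1) (bi : Function.Injective b) (hT : e ∈ T) (h0 : e ∈ N0 μ ν)
    (he : e ∉ SS m μ ν) (hb : e ∉ b.range) :
    ((μ.comp m.j).range ⊔ zpowers e).comap b ⊓ ((ν.comp m.j).range ⊔ zpowers e).comap b = ⊥ := eq_bot_iff.2 fun x hx => by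
  obtain ⟨u, hu, c, hc, e1⟩ := (mem_sup_left_norm (zp_norm.2 (s.T_U1 hT h0))).1 hx.1
  obtain ⟨u', hu', c', hc', e1'⟩ := (mem_sup_left_norm (zp_norm.2 (s.T_U2 hT h0))).1 hx.2
  have h1 : c * c'⁻¹ = u⁻¹ * u' := by rw [eq_inv_mul_of_mul_eq e1, eq_mul_inv_of_mul_eq e1']; group
  rcases GSt.SN.zp2 e2 (mul_mem hc (inv_mem hc')) with h | h
  · obtain rfl : u = u' := inv_mul_eq_one.1 (h1 ▸ h)
    rw [mem_bot.1 ((s.sq.U12 m).le ⟨hu, hu'⟩), one_mul] at e1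
    rcases GSt.SN.zp2 e2 hc with rfl | rfl
    exacts [bi (e1.symm.trans (map_one b).symm), absurd ⟨x, e1.symm⟩ hb]
  · exact absurd (h ▸ h1 ▸ mul_mem_sup (inv_mem hu) hu') he

/-- The second projection of `P ⊓ S'` has kernel `P ⊓ U₁`. -/
theorem card_pr : Nat.card ↥(P ⊓ SS m μ ν) ≤
    Nat.card ((P.comap (s.sq.i m)).map (.snd _ _)) * Nat.card ↥(P ⊓ (μ.comp m.j).range) := by
  choose f hf using fun x : ↥(P ⊓ SS m μ ν) => (s.sq.i_range m).ge x.2.2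
  refine (GSt.fx_card _ (μ.comp m.j).range (fun x => (⟨(f x).2, f x, mem_comap.2 ((hf x).symm ▸ x.2.1), rfl⟩ :
    (P.comap (s.sq.i m)).map (.snd _ _))) fun x y e => ⟨(f x).1⁻¹ * (f y).1, ?_⟩).trans
    (Nat.mul_le_mul_left _ (card_le_of_le (inf_le_inf_right _ inf_le_left)))
  rw [← hf, ← hf, ← map_inv, ← map_mul, SQ.i_apply, Prod.snd_mul, Prod.snd_inv, show (f x).2 = (f y).2 from congrArg Subtype.val e]
  simp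

theorem sylN : Syl 2 (T ⊓ N) N := have := s.nN; s.syl.inf le_top le_normalizer_of_normal
/-- `cm_odd`. -/
theorem T_eq {g' : G} (h : g ∈ T) (h' : g' ∈ T) (a : Ac μ ν g α β) (a' : Ac μ ν g' α β) : g = g' :=
  let ⟨_, e⟩ := s.syl.pgroup ⟨_, mul_mem (inv_mem h) h'⟩
  inv_mul_eq_one.1 (s.sq.cm_odd m.toBM (by simpa using a.inv.mul a') (congrArg Subtype.val e))
/-- `dec` inside `N`. -/
theorem decN (h : g ∈ T ⊓ N) (e : Ty m μ ν g θ η) : ∃ u ∈ SS m μ ν, ∃ σ ∈ Γ ⊓ N, g = u * σ ∧ Ac μ ν σ (m.fl θ) (m.fl η) :=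
  let ⟨u, hu, σ, hσ, e1, a⟩ := s.dec h.1 e
  ⟨u, hu, σ, ⟨hσ, (mul_mem_cancel_left (s.SS_N hu)).1 (e1 ▸ h.2)⟩, e1, a⟩
/-- `σ φ σ⁻¹ ∈ Γ` has the same type (`std0`, `std1`, `ac_t`, `comm`); `Γ_eq`. -/
theorem Γ_cen (h : φ ∈ Γ) (a : Ac μ ν φ (m.fl ι) (m.fl ι)) : ∀ σ ∈ Γ, φ * σ = σ * φ := fun σ hσ => by
  have k (θ : A) : m.fl θ * m.fl ι * (m.fl θ)⁻¹ = m.fl ι := by rw [cjf, ← map_mul, m.comm, map_mul]
  refine (cjf.1 (s.Γ_eq (mul_mem (mul_mem hσ h) (inv_mem hσ)) h ?_ a)).symm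
  obtain ⟨θ, η, b | b⟩ := s.std σ hσ
  · simpa only [k] using (b.mul a).mul b.inv
  · have := (b.mul (s.sq.ac_t a)).mul b.inv
    rw [k, k] at this
    simpa [mul_assoc, s.sq.tt, s.it] using this
/-- `Γ_cen`; `φ² = 1` by `Γ_eq`. -/
theorem ph_of (h : φ ∈ Γ ⊓ N) (a : Ac μ ν φ (m.fl ι) (m.fl ι)) (h2 : ι * ι = 1) (h1 : ι ≠ 1) : Ph m μ ν Γ N φ ι :=   ⟨h.1, h.2, s.Γ_cen h.1 a, s.Γ_eq (θ := 1) (η := 1) (mul_mem h.1 h.1) (one_mem _) (by simpa only [← map_mul, h2] using a.mul a)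
    (by simpa using GSt.Ac.one), a, h2, h1⟩
theorem T_SS : T ≤ 𝐍(SS m μ ν) := fun g h => Transfer.mem_normalizer_of_conj_le (by
  rw [SS, Subgroup.map_sup]
  by_cases h0 : g ∈ N0 μ ν
  · rw [conj_eq_of_norm (s.T_U1 h h0), conj_eq_of_norm (s.T_U2 h h0)]
  · exact sup_le (Transfer.conj_le_iff.2 fun x hx => mem_sup_right (s.T_sw h h0 hx))
      (Transfer.conj_le_iff.2 fun x hx => mem_sup_left (s.symm.T_sw h (GSt.N0_symm (μ := μ) ▸ h0) hx)))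
theorem SS_Γ (h : g ∈ SS m μ ν) (h' : g ∈ Γ) : g = 1 := by
  obtain ⟨θ, η, a⟩ := s.std0 h' (s.SS_N0 h)
  obtain ⟨rfl, rfl⟩ := s.sq.ty_uniq m (ty_fl a) ((s.sq.ty_one s.toSY (s.SS_T h)).2 h)
  exact s.Γ_eq h' (one_mem _) a (by simpa using GSt.Ac.one)
/-- `x = u σ ↦ σ` (`mem`); `T` normalizes `S'` (`T_U1`, `T_U2`, `T_sw`); `GSt.fx_card`. -/
theorem card_TN (h : P ≤ T ⊓ N) : Nat.card P ≤ Nat.card ↥(Γ ⊓ N) * Nat.card ↥(P ⊓ SS m μ ν) := by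
  choose u hu σ hσ e using fun x : P => (s.mem x).1 (h x.2).1
  refine GSt.fx_card P _ (fun x => (⟨σ x, hσ x, (mul_mem_cancel_left (s.SS_N (hu x))).1 (e x ▸ (h x.2).2)⟩ : ↥(Γ ⊓ N))) fun a c k => ?_
  rw [e a, e c, show σ a = σ c from congrArg Subtype.val k]
  simpa [mul_assoc] using conj_mem_of_norm (s.T_SS (inv_mem (s.Γ_T (hσ c)))) (mul_mem (inv_mem (hu a)) (hu c))
/-- `2 |Γ ⊓ N| ≤ |Γ| ≤ 2 |Γ ⊓ N0|` (`t_notN`, `GSt.two_mul_le`, `half`); `Γ ⊓ N0` injects into `A × A` (`Γ_eq`). -/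
theorem card_B : Nat.card ↥(Γ ⊓ N) ≤ Nat.card A ^ 2 := by
  have := m.fin
  have h1 := (GSt.two_mul_le (inf_lt_left.2 fun c => s.t_notN (c s.tΓ))).trans (s.sq.half (s.Γ_T.trans s.T_HH))
  choose θ η a using fun x : ↥(Γ ⊓ N0 μ ν) => s.std0 x.2.1 x.2.2
  have h2 := Nat.card_le_card_of_injective (fun x => (θ x, η x)) fun x y e => Subtype.ext (s.Γ_eq x.2.1 y.2.1 (a x) (by
    obtain ⟨e1, e2⟩ := Prod.mk.inj e
    rw [e1, e2]; exact a y))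
  rw [Nat.card_prod, ← _root_.sq] at h2
  omega
/-- `card_pr` twice (as in `USt.SN.card_bb`), `fix_pr`. -/
theorem card_fix {a c : U} (h : Ac μ ν e (MulAut.conj (m.j a) * m.fl θ) (MulAut.conj (m.j c) * m.fl η)) (hP : P ≤ 𝐂[e]) :
    Nat.card ↥(P ⊓ SS m μ ν) ≤ Nat.card (fx m.fU a θ) * Nat.card (fx m.fU c η) := by
  rw [← s.sq.i_range m, inf_comm, ← map_comap_eq, card_map_of_injective (s.sq.i_inj m), ← Nat.card_prod, ← Nat.card_congr (prodEquiv _ _).toEquiv]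
  exact card_le_of_le fun x hx => s.sq.fix_pr m h (mc.1 (hP hx)).symm
/-- `card_TN`, `card_fix`, `UP`. -/
theorem card_C (h : Ty m μ ν e θ η) (hP : P ≤ T ⊓ N ⊓ 𝐂[e]) : Nat.card P ≤ Nat.card ↥(Γ ⊓ N) * (Nat.card (m.V θ) * Nat.card (m.V η)) :=   let ⟨_, _, a⟩ := h; (s.card_TN (hP.trans inf_le_left)).trans (Nat.mul_le_mul_left _
    ((s.card_fix a (hP.trans inf_le_right)).trans (Nat.mul_le_mul (m.UP _ _) (m.UP _ _))))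

section
variable (p : Pt m μ ν t φ ι)
include p

/-- As `GSt.SN.into_T`. -/
theorem into_T (hP : IsPGroup 2 P) (h : ∀ x ∈ P, x * (g * φ * g⁻¹) = g * φ * g⁻¹ * x) :
    ∃ c, c ⋆ P ≤ T ∧ c * (g * φ * g⁻¹) * c⁻¹ ∈ T ∧ Ty m μ ν (c * (g * φ * g⁻¹) * c⁻¹) ι ι := by
  obtain ⟨R, hR, h1⟩ := Syl.exists_ge (Inv.isPGroup_zpowers_of_mul_self s.t2) (zpowers_le.2 (mem_cent1.2 p.ct.symm))
  have l : g⁻¹ ⋆ P ≤ 𝐂[φ] := by
    rw [Transfer.conj_le_iff_le_inv_conj, inv_inv, conj_cent1]; exact fun x hx => mem_cent1.2 (h x hx)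
  obtain ⟨c₁, hc₁, h2⟩ := hR.exists_conj_le ((pgroup_conj _).2 hP) l
  obtain ⟨c₂, hc₂, h3⟩ := Syl.exists_conj_le (s.syl.of_le s.T_HH le_top) hR.pgroup (s.two hR.pgroup (h1 (mem_zpowers t)))
  have e : c₂ * c₁ * g⁻¹ * (g * φ * g⁻¹) * (c₂ * c₁ * g⁻¹)⁻¹ = c₂ * φ * c₂⁻¹ := by
    conv_rhs => rw [← mul_inv_eq_iff_eq_mul.2 (mem_cent1.1 hc₁)]
    group
  have hφ := Transfer.conj_le_iff.1 h3 φ (hR.ge_of_norm_p (zpowers_le.2 (self_mem_cent1 φ)) (Inv.isPGroup_zpowers_of_mul_self p.sq)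
    (norm_of_cent (cent_zpowers φ ▸ hR.le)) (mem_zpowers φ))
  refine ⟨c₂ * c₁ * g⁻¹, ?_, e ▸ hφ, e ▸ ?_⟩
  · rw [← Transfer.conj_conj, ← Transfer.conj_conj]; exact (Transfer.conj_mono _ h2).trans h3
  obtain ⟨c, ⟨α, β, a⟩, e'⟩ : ∃ c ∈ N0 μ ν, c₂ * φ * c₂⁻¹ = c * φ * c⁻¹ := (s.sq.mem_HH.1 hc₂).elim (fun h => ⟨_, h, rfl⟩) fun h =>
    ⟨_, h, by rw [mul_assoc c₂ t, ← p.ct]; group⟩
  obtain ⟨α', β', a', e3, e4⟩ := p.ac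
  have a' := e' ▸ (a.mul a').mul a.inv
  obtain ⟨θ, η, h⟩ := s.ty hφ ⟨_, _, a'⟩
  obtain ⟨e1, e2⟩ := s.sq.ty_Θ m h a'
  rwa [← e1, ← e2, m.Θ_cj, m.Θ_cj, e3, e4] at h
/-- `into_T`, `card_C`. -/
theorem nb (hP : IsPGroup 2 P) (hN : P ≤ N) (h : ∀ x ∈ P, x * (g * φ * g⁻¹) = g * φ * g⁻¹ * x) :
    Nat.card P ≤ Nat.card ↥(Γ ⊓ N) * Nat.card (m.V ι) ^ 2 := by
  obtain ⟨c, h1, -, h3⟩ := s.into_T p hP h
  rw [← Transfer.card_conj c P, _root_.sq]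
  exact s.card_C h3 (le_inf (le_inf h1 (Transfer.conj_le_iff.2 fun x hx => s.cjN (hN hx) c))
    (Transfer.conj_le_iff.2 fun x hx => mc.2 (cjc (h x hx) c)))
/-- `nb` for `μ E₁ ν E₂` (`card_prod`), `card_B`. -/
theorem nb2 (h : Ac μ ν (g * φ * g⁻¹) α β) {E₁ E₂ : Subgroup J} (p1 : IsPGroup 2 E₁) (p2 : IsPGroup 2 E₂) (h1 : ∀ x ∈ E₁, α x = x) (h2 : ∀ x ∈ E₂, β x = x) :
    Nat.card E₁ * Nat.card E₂ ≤ Nat.card A ^ 2 * Nat.card (m.V ι) ^ 2 := by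
  rw [← s.sq.card_prod m.toBM p1 p2]
  refine (s.nb p (g := g) ((pg_prod p1 p2).map _) ?_ ?_).trans (Nat.mul_le_mul_right _ s.card_B) <;> rintro _ ⟨x, hx, rfl⟩
  · exact mul_mem (s.μN ⟨_, rfl⟩) (s.νN ⟨_, rfl⟩)
  · rw [eq_comm, ← cjf, s.sq.pr_apply, SQ.ac_apply h, h1 _ hx.1, h2 _ hx.2]
/-- Otherwise `LO` for `α`, and `LO` or `LF` for `β` (`cases`, `vf_lt`, `vf_eq`): `lo · v ι ≤ |A|² (v ι)²` (`nb2`), against `nf`. -/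
theorem ty_f (hι : Fd m.γ ι) (h : Ac μ ν (g * φ * g⁻¹) α β) : Fd m.γ (m.Θ α) := by
  have := m.fin
  obtain ⟨a2, b2⟩ := s.sq.ac_sq m.toBM h (cj2 p.sq g)
  refine (m.cases (by rw [← map_mul, a2, map_one])).resolve_left fun a => ?_
  obtain ⟨E₁, p1, c1, n1⟩ := m.LO a2 a
  obtain ⟨E₂, p2, c2, n2⟩ : ∃ E : Subgroup J, IsPGroup 2 E ∧ (∀ x ∈ E, β x = x) ∧ Nat.card (m.V ι) ≤ Nat.card E :=
    (m.cases (θ := m.Θ β) (by rw [← map_mul, b2, map_one])).elim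
      (fun b => let ⟨E, x, y, z⟩ := m.LO b2 b; ⟨E, x, y, (m.vf_lt hι).le.trans z⟩)
      fun b => let ⟨E, x, y, z⟩ := m.LF b2 b; ⟨E, x, y, ((m.vf_eq hι b).trans z.symm).le⟩
  have := (Nat.mul_le_mul n1 n2).trans (s.nb2 p h p1 p2 c1 c2)
  rw [_root_.sq (Nat.card (m.V ι)), ← mul_assoc] at this
  exact (m.nf ι hι).not_ge (Nat.le_of_mul_le_mul_right this Nat.card_pos)
end

/-- `t` and `g⁻¹ t g` lie in `C(φ)`; a Sylow subgroup of `C(φ)` containing `t` lies in `HH` (`two`); `sw`. -/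
theorem good_conj (h1 : φ * t = t * φ) (h2 : g * φ * g⁻¹ * t = t * (g * φ * g⁻¹)) : ∃ h ∈ HH μ ν t, g * φ * g⁻¹ = h * φ * h⁻¹ := by
  obtain ⟨R, hR, l⟩ := Syl.exists_ge (Inv.isPGroup_zpowers_of_mul_self s.t2) (zpowers_le.2 (mc.2 h1.symm))
  obtain ⟨c, hc, e⟩ := hR.exists_conj_le (Inv.isPGroup_zpowers_of_mul_self (cj2 s.t2 g⁻¹)) (zpowers_le.2 (mc.2 (by
    simpa [mul_assoc] using cjc h2.symm g⁻¹)))
  have := s.sw (c * g⁻¹) (by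
    simpa [mul_assoc] using s.two hR.pgroup (l (mem_zpowers t)) (Transfer.conj_le_iff.1 e _ (mem_zpowers _)))
  refine ⟨_, inv_mem this, ?_⟩
  conv_lhs => rw [← cjf.2 (mc.1 (inv_mem hc))]
  group
/-- `mem_HH`, `ac_t`. -/
theorem ac_HH (a : Ac μ ν φ α α) (h : g ∈ HH μ ν t) : ∃ δ δ', Ac μ ν (g * φ * g⁻¹) (δ * α * δ⁻¹) (δ' * α * δ'⁻¹) := by
  rcases s.sq.mem_HH.1 h with ⟨δ, δ', b⟩ | ⟨δ, δ', b⟩
  · exact ⟨δ, δ', (b.mul a).mul b.inv⟩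
  · exact ⟨δ, δ', by simpa [mul_assoc, s.sq.tt, s.it] using (b.mul (s.sq.ac_t a)).mul b.inv⟩
/-- `μ (j (V ι)) ν (j (V ι))` (order `(v ι)²`: `i_inj`) and `Γ ⊓ N` (`cen`) lie in `T ⊓ N ⊓ C(φ)`, `S' ⊓ Γ = 1` (`ty_one`, `Γ_eq`); `(a, σ) ↦ a σ` is injective. -/
theorem lb (p : Ph m μ ν Γ N φ ι) : Nat.card ↥(Γ ⊓ N) * Nat.card (m.V ι) ^ 2 ≤ Nat.card ↥(T ⊓ N ⊓ 𝐂[φ]) := by
  rw [_root_.sq, ← Nat.card_prod, ← Nat.card_prod]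
  have hi (x : U × U) : s.sq.i m x ∈ SS m μ ν := (s.sq.i_range m).le ⟨x, rfl⟩
  refine Nat.card_le_card_of_injective (fun x => ⟨s.sq.i m (x.2.1, x.2.2) * x.1, ⟨mul_mem (s.SS_T (hi _)) (s.Γ_T x.1.2.1),
    mul_mem (s.SS_N (hi _)) x.1.2.2⟩, mul_mem (mc.2 ?_) (mc.2 (p.cen _ x.1.2.1).symm)⟩) fun x y e => ?_
  · rw [eq_comm, ← cjf, SQ.i_apply, SQ.ac_apply p.ac, m.fl_j, m.fl_j, mem_V.1 x.2.1.2, mem_V.1 x.2.2.2]
  · have e : s.sq.i m (x.2.1, x.2.2) * x.1 = s.sq.i m (y.2.1, y.2.2) * y.1 := congrArg Subtype.val e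
    have e1 : (x.1 : G) = y.1 := mul_inv_eq_one.1 (s.SS_Γ (by
      rw [eq_inv_mul_of_mul_eq e, mul_assoc, mul_inv_cancel_right]; exact mul_mem (inv_mem (hi _)) (hi _)) (mul_mem x.1.2.1 (inv_mem y.1.2.1)))
    rw [e1] at e
    obtain ⟨e2, e3⟩ := Prod.mk.inj (s.sq.i_inj m (mul_right_cancel e))
    exact Prod.ext (Subtype.ext e1) (Prod.ext (Subtype.ext e2) (Subtype.ext e3))
end SN

end Cfsg.Lib.OF
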